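import Cfsg.Agent.H136.EE.Comp_m3
import Mathlib
import Cfsg.Agent.Lib.Refl
import Cfsg.Agent.Lib.MatLit
import Cfsg.Agent.ClassicalGeometry.AutPSL.Main
import Cfsg.Agent.S0242
import Cfsg.Agent.S0249
import Cfsg.Agent.LieClassical.SLGen
import Cfsg.Agent.H866.L5.St
import Cfsg.Agent.FastGrp
import Cfsg.Agent.Prune
set_option linter.all false

section
prune_inst 0x7ff0acf9ebb8bbffdfff7e7ffededdfdf9b9bfffa4dff9cb7fe061ff0bdf4b000dc163ad8fe010fc1f96421410e87b43fffffeffe86ffc7ffffdfff41ffbff8ffdf73508519488340fbc2ff603f0778e7f3fffffffffffffffffffffffffffbeffbfffffffff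

-- part: H865/L5/Base
section
set_option linter.all false
open scoped Cfsg.Agent.FastGrp

/-!
# Interface for S5923 / S5924 : `PSL₃(5)` in `E₈(3)` (helper865)

* `SL35 = SL₃(5)`, `VP` (elations with centre `p₀ = ⟨e₀⟩`), `VL` (axis `⟨e₀,e₁⟩`), `US = VP·VL` (unitriangular), `z0 = diag(4,2,2)`,
  `io` (inverse transpose);
* `ac g v`, `Fx K S` (fixed vectors of a set `S` of elements of `chevE8.group K`);
* `Good f`, `GoodIn Γ f` for `f : SL35 →* chevE8.group K`;
* characteristic 3: `n0` (represents `w8⁻¹`), `sg = tau`, `GT = Fix sg`, `AT = T ⊓ GT` (order `10⁴`), `T5 = AT[5]`.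
-/

set_option autoImplicit false
set_option linter.unusedSectionVars false

namespace Cfsg.Agent.H865.L5

open CoxeterSystem Subgroup Cfsg Cfsg.Lie Cfsg.Lie.ChevalleyDatum
open Cfsg.Agent.ChevalleyStructure Cfsg.Agent.ChevalleyStructure.Elts Cfsg.Agent.ChevalleyStructure.CoxeterGeom
  Cfsg.Agent.ChevalleyStructure.CoxeterGeomTypes Cfsg.Agent.ChevalleyStructure.NPerm
open Cfsg.Agent.Tits.Roots Cfsg.Agent.Tits.Core Cfsg.Agent.Nodes Cfsg.Agent.Nodes.SubComb Cfsg.Agent.Nodes.Reps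
  Cfsg.Agent.Nodes.BNOf Cfsg.Agent.Nodes.RGDChev Cfsg.Agent.Nodes.Bruhat Cfsg.Agent.Nodes.Coroot
open Cfsg.Agent.KFacts.RgdField Cfsg.Agent.KFacts.RgdChevCoord Cfsg.Agent.BpExc.TorCent Cfsg.Agent.BpExc.TorChev
open Cfsg.Agent.GpExc.Field Cfsg.Agent.BpExc.Tow Cfsg.Agent.BpExc.TowChev Cfsg.Agent.BpExc.Fr
  Cfsg.Agent.BpExc.LangFr Cfsg.Agent.BpExc.FamField Cfsg.Agent.BpExc.FamInst Cfsg.Agent.H129.TorusChar
  Cfsg.Agent.H795.LangT Cfsg.Agent.BpExc.FamExt Cfsg.Agent.BpExc.FamUntw Cfsg.Agent.H378.TorDual Cfsg.Agent.H378.TorChar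
  Cfsg.Agent.H378.TorFin Cfsg.Agent.H378.RankOne Cfsg.Agent.H378.RootTor Cfsg.Agent.H865.EE

attribute [local irreducible] w8

/-! ### `SL₃(5)` -/

instance fact_five : Fact (Nat.Prime 5) := ⟨by norm_num⟩

/-- `SL₃(5)` -/
abbrev SL35 := Matrix.SpecialLinearGroup (Fin 3) (ZMod 5)

/-- the elation `I + a e₀₁ + b e₀₂` with centre `p₀` -/
def vp (a b : ZMod 5) : SL35 := ⟨!![1, a, b; 0, 1, 0; 0, 0, 1], by simp [Matrix.det_fin_three]⟩

/-- the elation `I + a e₀₂ + b e₁₂` with axis `⟨e₀, e₁⟩` -/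
def vl (a b : ZMod 5) : SL35 := ⟨!![1, 0, a; 0, 1, b; 0, 0, 1], by simp [Matrix.det_fin_three]⟩

/-- the elation `I + a e₁₀ + b e₂₀` with axis `⟨e₁, e₂⟩` -/
def vm (a b : ZMod 5) : SL35 := ⟨!![1, 0, 0; a, 1, 0; b, 0, 1], by simp [Matrix.det_fin_three]⟩

/-- unitriangular elements -/
def us (a b c : ZMod 5) : SL35 := ⟨!![1, a, b; 0, 1, c; 0, 0, 1], by simp [Matrix.det_fin_three]⟩

/-- the elations with centre `p₀` (order 25) -/
def VP : Set SL35 := {g | ∃ a b, g = vp a b}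

/-- the elations with axis `⟨e₀, e₁⟩` (order 25) -/
def VL : Set SL35 := {g | ∃ a b, g = vl a b}

/-- the elations with axis `⟨e₁, e₂⟩` (order 25) -/
def VM : Set SL35 := {g | ∃ a b, g = vm a b}

/-- a Sylow 5-subgroup (order 125) -/
def US : Set SL35 := {g | ∃ a b c, g = us a b c}

/-- `z0 = diag(4,2,2)`, `z0 v z0⁻¹ = v²` for `v ∈ VP` -/
def z0 : SL35 := ⟨!![4, 0, 0; 0, 2, 0; 0, 0, 2], by
  rw [Matrix.det_fin_three]
  decide⟩

theorem transpose_mul' (g h : SL35) : (g * h).transpose = h.transpose * g.transpose :=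
  Subtype.ext (Matrix.transpose_mul g.1 h.1)

theorem transpose_one' : (1 : SL35).transpose = 1 := Subtype.ext Matrix.transpose_one

theorem transpose_transpose' (g : SL35) : g.transpose.transpose = g := Subtype.ext (Matrix.transpose_transpose g.1)

theorem transpose_inv' (g : SL35) : g⁻¹.transpose = g.transpose⁻¹ := by
  rw [eq_inv_iff_mul_eq_one, ← transpose_mul', mul_inv_cancel, transpose_one']

/-- inverse transpose -/
def io : SL35 ≃* SL35 where
  toFun g := g⁻¹.transpose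
  invFun g := g⁻¹.transpose
  left_inv g := by
    show ((g⁻¹ : SL35).transpose : SL35)⁻¹.transpose = g
    rw [transpose_inv', transpose_transpose', inv_inv]
  right_inv g := by
    show ((g⁻¹ : SL35).transpose : SL35)⁻¹.transpose = g
    rw [transpose_inv', transpose_transpose', inv_inv]
  map_mul' g h := by rw [mul_inv_rev, transpose_mul']

theorem io_apply (g : SL35) : io g = g⁻¹.transpose := rfl

theorem io_io (g : SL35) : io (io g) = g := io.left_inv g

/-! ### The modules -/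

section Mod

variable {K : Type} [Field K]

/-- the action on the module of dimension 248 -/
noncomputable def ac (g : ↥(chevE8.group K)) : (chevE8.Idx → K) →ₗ[K] (chevE8.Idx → K) :=
  Matrix.mulVecLin ((g : GL chevE8.Idx K) : Matrix chevE8.Idx chevE8.Idx K)

theorem ac_one (v : chevE8.Idx → K) : ac (1 : ↥(chevE8.group K)) v = v := by
  show Matrix.mulVec (1 : Matrix chevE8.Idx chevE8.Idx K) v = v
  rw [Matrix.one_mulVec]

theorem ac_mul (g h : ↥(chevE8.group K)) (v : chevE8.Idx → K) : ac (g * h) v = ac g (ac h v) := by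
  show Matrix.mulVec (((g * h : ↥(chevE8.group K)) : GL chevE8.Idx K) : Matrix chevE8.Idx chevE8.Idx K) v =
    Matrix.mulVec ((g : GL chevE8.Idx K) : Matrix chevE8.Idx chevE8.Idx K)
      (Matrix.mulVec ((h : GL chevE8.Idx K) : Matrix chevE8.Idx chevE8.Idx K) v)
  rw [Matrix.mulVec_mulVec]
  rfl

/-- the fixed vectors of a set of elements -/
noncomputable def Fx (S : Set ↥(chevE8.group K)) : Submodule K (chevE8.Idx → K) where
  carrier := {v | ∀ g ∈ S, ac g v = v}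
  zero_mem' := fun g _ => map_zero _
  add_mem' := fun {a b} ha hb g hg => by rw [map_add, ha g hg, hb g hg]
  smul_mem' := fun c a ha g hg => by rw [map_smul, ha g hg]

theorem mem_Fx {S : Set ↥(chevE8.group K)} {v : chevE8.Idx → K} : v ∈ Fx S ↔ ∀ g ∈ S, ac g v = v := Iff.rfl

/-- **Good homomorphisms** -/
structure Good (f : SL35 →* ↥(chevE8.group K)) : Prop where
  /-- the fixed space of the elations with centre `p₀` has dimension 8 -/
  dim : Module.finrank K (Fx (f '' VP)) = 8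
  /-- `z0²` acts as `-1` on it -/
  zz : ∀ v ∈ Fx (f '' VP), ac (f z0) (ac (f z0) v) = -v
  /-- the Sylow 5-subgroup has no fixed vectors -/
  fixS : ∀ v ∈ Fx (f '' US), v = 0

/-- **Good homomorphisms into a subgroup** -/
structure GoodIn (Γ : Subgroup ↥(chevE8.group K)) (f : SL35 →* ↥(chevE8.group K)) : Prop extends Good f where
  /-- `C_Γ(f US) ≤ f US` -/
  centS : ∀ g ∈ Γ, (∀ s ∈ US, g * f s = f s * g) → ∃ s ∈ US, g = f s
  /-- `C_Γ(f VP)` is abelian -/
  centV : ∀ g ∈ Γ, ∀ h ∈ Γ, (∀ s ∈ VP, g * f s = f s * g) → (∀ s ∈ VP, h * f s = f s * h) → g * h = h * g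

end Mod

/-- `E₈(3)` -/
abbrev G3 := ↥(chevE8.group (ZMod 3))

/-! ### The groups in characteristic 3 -/

instance fact_three : Fact (Nat.Prime 3) := ⟨Nat.prime_three⟩

section Grp

variable (k : Type) [Field k] [CharP k 3]

/-- a representative of `w8⁻¹` -/
noncomputable def n0 : ↥(chevE8.group k) := (wL.reverse.map (nc tp8 k)).prod

variable {k} in
theorem n0_rp (hk : LocFin k) : Rp cs8 (nsysL tp8 cs8 hk 3) w8⁻¹ (n0 k) := by
  have h : ∀ ω : List (Fin 8), Rp cs8 (nsysL tp8 cs8 hk 3) (cs8.wordProd ω) ((ω.map (nc tp8 k)).prod) := by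
    intro ω
    induction ω with
    | nil =>
      rw [wordProd_nil, List.map_nil, List.prod_nil]
      exact rp_one
    | cons i ω ih =>
      rw [wordProd_cons, List.map_cons, List.prod_cons]
      exact Rp.mul ⟨(nsysL tp8 cs8 hk 3).norm i, wq_simple _ _ i⟩ ih
  have e : w8⁻¹ = cs8.wordProd wL.reverse := by
    rw [w8, wordProd_reverse]
  rw [e]
  exact h _

variable [IsAlgClosed k] [PerfectRing k 3]

/-- the Frobenius endomorphism -/
noncomputable def sg : ↥(chevE8.group k) →* ↥(chevE8.group k) := tau chevE8 k 3 1 (n0 k)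

/-- the fixed points of `sg` (isomorphic to `E₈(3)`) -/
noncomputable def GT : Subgroup ↥(chevE8.group k) := (sg k).eqLocus (MonoidHom.id _)

/-- the torus of order `10⁴` -/
noncomputable def AT : Subgroup ↥(chevE8.group k) := TT chevE8 k ⊓ GT k

/-- the elements of order 5 of the torus -/
def T5 : Set ↥(chevE8.group k) := {t | t ∈ AT k ∧ t ^ 5 = 1}

variable {k} in
/-- no root is trivial on `S` -/
def Reg (S : Set ↥(chevE8.group k)) : Prop := ∀ a, Rt a → ∃ t ∈ S, cX tp8 t a ≠ 1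

end Grp

end Cfsg.Agent.H865.L5
end

-- part: H602/L5/Idem
section
prune_inst 0xe4102044704000000018001202200064400004220040080009e00b0203496e2269852001be3020068a100c5160090000001001200020000000000c0000040000088000069108a000200086000000000000000000000000000000000000000004000000000
set_option linter.all false
open scoped Cfsg.Agent.FastGrp

/-!
# S5923, E1 (first part): the 31 idempotents (helper602)

`V` finite-dimensional over `ZMod 3`, `ρ : SL35 →* Module.End (ZMod 3) V`.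

* `Hyp ρ` : `dim V = 248`, the elations with centre `p₀` have a fixed space of dimension 8 on which `z0² = -1`, the Sylow
  5-subgroup has no fixed vector;
* `P0` : the stabilizer of `p₀`, of index 31 (`card_quot`);
* `ep ρ` : the projection onto `fx ρ VP`; `eq ρ : SL35 ⧸ P0 → End V`, `x P0 ↦ ρ x * ep ρ * ρ x⁻¹`;
* `eq_mul_self`, `eq_mul_of_ne`, `sum_eq` : orthogonal idempotents with sum 1.
-/

set_option autoImplicit false
set_option linter.unusedSectionVars false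

open Module

namespace Cfsg.Agent.H602.L5

open Cfsg.Agent.H865.L5

/-! ### Matrices -/

theorem mul_val (x y : SL35) : (x * y).1 = x.1 * y.1 := rfl

theorem vp_mul (a b c d : ZMod 5) : vp a b * vp c d = vp (a + c) (b + d) := by
  apply Subtype.ext
  rw [mul_val]
  ext i j
  fin_cases i <;> fin_cases j <;> simp [vp, Matrix.mul_apply, Fin.sum_univ_three, add_comm]

theorem vp_zero : vp 0 0 = 1 := by
  apply Subtype.ext
  ext i j
  fin_cases i <;> fin_cases j <;> rfl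

/-- `w e₀ = e₁` -/
def ww : SL35 := ⟨!![0, -1, 0; 1, 0, 0; 0, 0, 1], by simp [Matrix.det_fin_three]⟩

theorem vp_ww (t : ZMod 5) : vp 0 t * ww = ww * us 0 0 (-t) := by
  apply Subtype.ext
  rw [mul_val, mul_val]
  ext i j
  (revert i j; simp only [vp, us, ww, Matrix.mul_apply, Fin.sum_univ_three, _root_.Fin.forall_fin_succ, _root_.Matrix.of_apply, _root_.Matrix.cons_val', _root_.Matrix.cons_val_fin_one, Fin.isValue, _root_.Matrix.cons_val_zero, _root_.Matrix.cons_val_one, _root_.Matrix.cons_val, _root_.MulZeroClass.mul_zero, _root_.mul_one, _root_.zero_add, _root_.add_zero, _root_.Matrix.cons_val_succ, _root_.mul_neg, _root_.forall_const, _root_.true_and, _root_.neg_mul, _root_.one_mul, _root_.neg_neg, _root_.and_self, _root_.right_eq_add, _root_.neg_eq_zero, _root_.mul_eq_zero, _root_.neg_zero, _root_.true_or, _root_.implies_true])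

theorem us_eq (a b c : ZMod 5) : us a b c = us 0 0 c * vp a b := by
  apply Subtype.ext
  rw [mul_val]
  ext i j
  (revert i j; simp only [vp, us, Matrix.mul_apply, Fin.sum_univ_three, _root_.Fin.forall_fin_succ, _root_.Matrix.of_apply, _root_.Matrix.cons_val', _root_.Matrix.cons_val_fin_one, Fin.isValue, _root_.Matrix.cons_val_zero, _root_.Matrix.cons_val_one, _root_.Matrix.cons_val, _root_.mul_one, _root_.MulZeroClass.mul_zero, _root_.add_zero, _root_.Matrix.cons_val_succ, _root_.forall_const, _root_.true_and, _root_.one_mul, _root_.and_self, _root_.right_eq_add, _root_.mul_eq_zero, _root_.true_or, _root_.implies_true])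

theorem us_mul_us (c d : ZMod 5) : us 0 0 c * us 0 0 d = us 0 0 (c + d) := by
  apply Subtype.ext
  rw [mul_val]
  ext i j
  fin_cases i <;> fin_cases j <;> simp [us, Matrix.mul_apply, Fin.sum_univ_three, add_comm]

theorem vp_us (a b c : ZMod 5) : vp a b * us 0 0 c = us 0 0 c * vp a (b + a * c) := by
  apply Subtype.ext
  rw [mul_val, mul_val]
  ext i j
  fin_cases i <;> fin_cases j <;> simp only [vp, us, Matrix.mul_apply, Fin.sum_univ_three, add_comm, _root_.Fin.zero_eta, _root_.Fin.isValue, _root_.Matrix.of_apply, _root_.Matrix.cons_val', _root_.Matrix.cons_val_fin_one, _root_.Matrix.cons_val_zero, _root_.mul_one, _root_.Matrix.cons_val_one, _root_.MulZeroClass.mul_zero, _root_.zero_add, _root_.Matrix.cons_val, _root_.Fin.mk_one, _root_.add_zero, _root_.one_mul, _root_.Fin.reduceFinMk, _root_.MulZeroClass.zero_mul]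

/-- the stabilizer of the point `p₀ = ⟨e₀⟩` -/
def P0 : Subgroup SL35 where
  carrier := {y | y.1 1 0 = 0 ∧ y.1 2 0 = 0}
  one_mem' := ⟨rfl, rfl⟩
  mul_mem' := by
    rintro x y ⟨hx1, hx2⟩ ⟨hy1, hy2⟩
    constructor
    · show ((x.1 * y.1 : Matrix _ _ _)) 1 0 = 0
      rw [Matrix.mul_apply, Fin.sum_univ_three, hx1, hy1, hy2]
      ring
    · show ((x.1 * y.1 : Matrix _ _ _)) 2 0 = 0
      rw [Matrix.mul_apply, Fin.sum_univ_three, hx2, hy1, hy2]
      ring
  inv_mem' := by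
    rintro x ⟨hx1, hx2⟩
    constructor
    · show ((x⁻¹ : SL35) : Matrix (Fin 3) (Fin 3) (ZMod 5)) 1 0 = 0
      rw [Matrix.SpecialLinearGroup.coe_inv, Matrix.adjugate_fin_three]
      have h1 : (x : Matrix (Fin 3) (Fin 3) (ZMod 5)) 1 0 = 0 := hx1
      have h2 : (x : Matrix (Fin 3) (Fin 3) (ZMod 5)) 2 0 = 0 := hx2
      simp only [h1, h2, _root_.Fin.isValue, _root_.MulZeroClass.zero_mul, _root_.neg_zero, _root_.MulZeroClass.mul_zero, _root_.add_zero, _root_.sub_zero, _root_.sub_self, _root_.Matrix.of_apply, _root_.Matrix.cons_val', _root_.Matrix.cons_val_zero, _root_.Matrix.cons_val_fin_one, _root_.Matrix.cons_val_one]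
    · show ((x⁻¹ : SL35) : Matrix (Fin 3) (Fin 3) (ZMod 5)) 2 0 = 0
      rw [Matrix.SpecialLinearGroup.coe_inv, Matrix.adjugate_fin_three]
      have h1 : (x : Matrix (Fin 3) (Fin 3) (ZMod 5)) 1 0 = 0 := hx1
      have h2 : (x : Matrix (Fin 3) (Fin 3) (ZMod 5)) 2 0 = 0 := hx2
      simp only [h1, h2, _root_.Fin.isValue, _root_.MulZeroClass.zero_mul, _root_.neg_zero, _root_.MulZeroClass.mul_zero, _root_.add_zero, _root_.sub_zero, _root_.sub_self, _root_.Matrix.of_apply, _root_.Matrix.cons_val', _root_.Matrix.cons_val_zero, _root_.Matrix.cons_val_fin_one, _root_.Matrix.cons_val, _root_.Matrix.cons_val_one]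

theorem mem_P0 {y : SL35} : y ∈ P0 ↔ y.1 1 0 = 0 ∧ y.1 2 0 = 0 := Iff.rfl

theorem conj_vp {y : SL35} (hy : y ∈ P0) (a b : ZMod 5) : ∃ a' b' : ZMod 5, y * vp a b * y⁻¹ = vp a' b' := by
  obtain ⟨hy1, hy2⟩ := hy
  obtain ⟨hz1, hz2⟩ := P0.inv_mem ⟨hy1, hy2⟩
  set z := y⁻¹ with hz
  have hyz : y.1 * z.1 = 1 := by
    have : y * z = 1 := mul_inv_cancel y
    exact (congrArg Subtype.val this :)
  have h : ∀ i j, y.1 i 0 * z.1 0 j + y.1 i 1 * z.1 1 j + y.1 i 2 * z.1 2 j = (1 : Matrix (Fin 3) (Fin 3) (ZMod 5)) i j := by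
    intro i j
    rw [← hyz, Matrix.mul_apply, Fin.sum_univ_three]
  refine ⟨y.1 0 0 * (a * z.1 1 1 + b * z.1 2 1), y.1 0 0 * (a * z.1 1 2 + b * z.1 2 2), ?_⟩
  apply Subtype.ext
  have e : ∀ i j, (y.1 * (vp a b).1 * z.1) i j = (y.1 i 0 * z.1 0 j + y.1 i 1 * z.1 1 j + y.1 i 2 * z.1 2 j) +
      y.1 i 0 * (a * z.1 1 j + b * z.1 2 j) := by
    intro i j
    simp only [vp, Matrix.mul_apply, Fin.sum_univ_three, _root_.Matrix.of_apply, _root_.Matrix.cons_val', _root_.Matrix.cons_val_fin_one, _root_.Fin.isValue, _root_.Matrix.cons_val_zero, _root_.Matrix.cons_val_one, _root_.Matrix.cons_val, _root_.mul_one, _root_.MulZeroClass.mul_zero, _root_.add_zero]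
    ring
  show y.1 * (vp a b).1 * z.1 = _
  ext i j
  rw [e, h]
  (revert i j; simp only [vp, hy1, hy2, hz1, hz2, _root_.Fin.forall_fin_succ, Fin.isValue, _root_.Matrix.of_apply, _root_.Matrix.cons_val', _root_.Matrix.cons_val_fin_one, _root_.MulZeroClass.mul_zero, _root_.add_zero, _root_.Matrix.cons_val_zero, _root_.Matrix.cons_val_succ, _root_.Fin.succ_zero_eq_one, _root_.Fin.succ_one_eq_two, _root_.IsEmpty.forall_iff, _root_.and_true, _root_.Matrix.one_apply_eq, Nat.reduceAdd, _root_.ne_eq, _root_.zero_ne_one, _root_.not_false_eq_true, _root_.Matrix.one_apply_ne, _root_.zero_add, Fin.reduceEq, _root_.and_self, _root_.Fin.succ_ne_zero, _root_.MulZeroClass.zero_mul, _root_.true_and])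

/-- elements outside `P0` -/
theorem exists_bruhat {x : SL35} (hx : x ∉ P0) : ∃ y ∈ P0, ∃ y' ∈ P0, x = y * ww * y' := by
  have key : ∀ y : SL35, y ∈ P0 → (∀ i, (y.1 * ww.1) i 0 = x.1 i 0) → ∃ y ∈ P0, ∃ y' ∈ P0, x = y * ww * y' := by
    intro y hy h
    refine ⟨y, hy, (y * ww)⁻¹ * x, ?_, by group⟩
    have h1 : ∀ i, (((y * ww)⁻¹ * x : SL35) : Matrix (Fin 3) (Fin 3) (ZMod 5)) i 0 =
        (1 : Matrix (Fin 3) (Fin 3) (ZMod 5)) i 0 := by
      intro i
      have h2 : (((y * ww)⁻¹ * x : SL35) : Matrix (Fin 3) (Fin 3) (ZMod 5)) i 0 =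
          ((((y * ww)⁻¹ : SL35) : Matrix (Fin 3) (Fin 3) (ZMod 5)) * (y * ww : SL35)) i 0 := by
        show (_ * _ : Matrix (Fin 3) (Fin 3) (ZMod 5)) i 0 = _
        rw [Matrix.mul_apply, Matrix.mul_apply]
        refine Finset.sum_congr rfl fun j _ => ?_
        congr 1
        exact (h j).symm
      rw [h2]
      have h3 : (y * ww)⁻¹ * (y * ww) = 1 := inv_mul_cancel _
      exact congrFun (congrFun (congrArg Subtype.val h3) i) 0
    exact ⟨h1 1, h1 2⟩
  by_cases hv : x.1 1 0 = 0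
  · have hv2 : x.1 2 0 ≠ 0 := fun h => hx ⟨hv, h⟩
    refine key ⟨!![-(x.1 2 0)⁻¹, x.1 0 0, 0; 0, x.1 1 0, 1; 0, x.1 2 0, 0], ?_⟩ ⟨rfl, rfl⟩ fun i => ?_
    · rw [Matrix.det_fin_three]
      simp [hv2]
    · (revert i; simp only [ww, Matrix.mul_apply, Fin.sum_univ_three, _root_.Fin.forall_fin_succ, Fin.isValue, _root_.Matrix.of_apply, _root_.Matrix.cons_val', _root_.Matrix.cons_val_fin_one, _root_.Matrix.cons_val_zero, _root_.MulZeroClass.mul_zero, _root_.Matrix.cons_val_one, _root_.mul_one, _root_.zero_add, _root_.Matrix.cons_val, _root_.add_zero, _root_.Matrix.cons_val_succ, _root_.Fin.succ_zero_eq_one, _root_.Fin.succ_one_eq_two, _root_.IsEmpty.forall_iff, _root_.and_self])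
  · refine key ⟨!![(x.1 1 0)⁻¹, x.1 0 0, 0; 0, x.1 1 0, 0; 0, x.1 2 0, 1], ?_⟩ ⟨rfl, rfl⟩ fun i => ?_
    · rw [Matrix.det_fin_three]
      simp [hv]
    · (revert i; simp only [ww, Matrix.mul_apply, Fin.sum_univ_three, _root_.Fin.forall_fin_succ, Fin.isValue, _root_.Matrix.of_apply, _root_.Matrix.cons_val', _root_.Matrix.cons_val_fin_one, _root_.Matrix.cons_val_zero, _root_.MulZeroClass.mul_zero, _root_.Matrix.cons_val_one, _root_.mul_one, _root_.zero_add, _root_.Matrix.cons_val, _root_.add_zero, _root_.Matrix.cons_val_succ, _root_.Fin.succ_zero_eq_one, _root_.Fin.succ_one_eq_two, _root_.IsEmpty.forall_iff, _root_.and_self])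

/-! ### The index of `P0` -/

/-- normalization of a vector -/
def nv (v : Fin 3 → ZMod 5) : Fin 3 → ZMod 5 :=
  if v 0 ≠ 0 then fun i => (v 0)⁻¹ * v i else if v 1 ≠ 0 then fun i => (v 1)⁻¹ * v i else fun i => (v 2)⁻¹ * v i

theorem nv_eq (v : Fin 3 → ZMod 5) (hv : v ≠ 0) : ∃ c : ZMod 5, c ≠ 0 ∧ ∀ i, v i = c * nv v i := by
  unfold nv
  split_ifs with h0 h1
  · exact ⟨v 0, h0, fun i => by field_simp⟩
  · exact ⟨v 1, h1, fun i => by field_simp⟩
  · have h2 : v 2 ≠ 0 := by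
      intro h2
      apply hv
      push Not at h0 h1
      funext i
      fin_cases i
      · exact h0
      · exact h1
      · exact h2
    exact ⟨v 2, h2, fun i => by field_simp⟩

theorem nv_smul (v : Fin 3 → ZMod 5) {c : ZMod 5} (hc : c ≠ 0) : nv (fun i => c * v i) = nv v := by
  unfold nv
  by_cases h0 : v 0 = 0
  · by_cases h1 : v 1 = 0
    · by_cases h2 : v 2 = 0
      · simp [h0, h1, h2]
      · simp only [h0, h1, mul_zero, ne_eq, not_true_eq_false, if_false]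
        funext i
        field_simp
    · simp only [h0, mul_zero, ne_eq, not_true_eq_false, if_false, mul_eq_zero, hc, h1, or_self, not_false_eq_true, if_true]
      funext i
      field_simp
  · simp only [ne_eq, mul_eq_zero, hc, h0, or_self, not_false_eq_true, if_true]
    funext i
    field_simp

/-- the point `x p₀` -/
def pt (x : SL35) : Fin 3 → ZMod 5 := nv fun i => x.1 i 0

theorem col_ne (x : SL35) : (fun i => x.1 i 0) ≠ 0 := by
  intro h
  have h1 := x.2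
  rw [Matrix.det_fin_three] at h1
  have e : ∀ i, x.1 i 0 = 0 := fun i => congrFun h i
  rw [e 0, e 1, e 2] at h1
  simp only [_root_.Fin.isValue, _root_.MulZeroClass.zero_mul, _root_.sub_self, _root_.MulZeroClass.mul_zero, _root_.add_zero, _root_.zero_ne_one] at h1

theorem col_mul (x y : SL35) (i : Fin 3) : (x * y).1 i 0 = x.1 i 0 * y.1 0 0 + x.1 i 1 * y.1 1 0 + x.1 i 2 * y.1 2 0 := by
  show (x.1 * y.1) i 0 = _
  rw [Matrix.mul_apply, Fin.sum_univ_three]

theorem pt_eq_iff (x y : SL35) : pt x = pt y ↔ x⁻¹ * y ∈ P0 := by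
  constructor
  · intro h
    obtain ⟨c, hc, h1⟩ := nv_eq _ (col_ne x)
    obtain ⟨d, hd, h2⟩ := nv_eq _ (col_ne y)
    have h3 : ∀ i, y.1 i 0 = d * c⁻¹ * x.1 i 0 := by
      intro i
      have h4 := h1 i
      have h5 := h2 i
      have h6 : nv (fun i => x.1 i 0) i = nv (fun i => y.1 i 0) i := congrFun h i
      rw [h5, h4, ← h6]
      field_simp
    have h7 : ∀ i, (x⁻¹ * y).1 i 0 = d * c⁻¹ * (1 : Matrix (Fin 3) (Fin 3) (ZMod 5)) i 0 := by
      intro i
      have h8 : (x⁻¹ * x).1 i 0 = (1 : Matrix (Fin 3) (Fin 3) (ZMod 5)) i 0 := by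
        rw [inv_mul_cancel]; rfl
      rw [← h8, col_mul, col_mul, h3 0, h3 1, h3 2]
      ring
    rw [mem_P0, h7, h7]
    simp
  · rintro ⟨h1, h2⟩
    have h3 : ∀ i, y.1 i 0 = (x⁻¹ * y).1 0 0 * x.1 i 0 := by
      intro i
      have h4 : y = x * (x⁻¹ * y) := by group
      conv_lhs => rw [h4]
      rw [col_mul x (x⁻¹ * y), h1, h2]
      ring
    have h5 : (x⁻¹ * y).1 0 0 ≠ 0 := by
      intro h6
      apply col_ne y
      funext i
      show y.1 i 0 = 0
      rw [h3, h6, zero_mul]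
    have h7 : (fun i => y.1 i 0) = fun i => (x⁻¹ * y).1 0 0 * (fun i => x.1 i 0) i := funext h3
    show nv _ = nv _
    rw [h7, nv_smul _ h5]

/-- the normalized vectors -/
def pts : Finset (Fin 3 → ZMod 5) := Finset.univ.filter fun v => nv v = v ∧ v ≠ 0

theorem card_pts : pts.card = 31 := by decide +kernel

theorem pt_mem (x : SL35) : pt x ∈ pts := by
  have h0 := col_ne x
  obtain ⟨c, hc, h1⟩ := nv_eq _ h0
  rw [pts, Finset.mem_filter]
  refine ⟨Finset.mem_univ _, ?_, ?_⟩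
  · have h2 : (fun i => x.1 i 0) = fun i => c * pt x i := funext h1
    conv_rhs => rw [pt, h2, nv_smul _ hc]
  · intro h
    apply h0
    funext i
    show x.1 i 0 = 0
    have h2 : nv (fun i => x.1 i 0) i = 0 := congrFun h i
    rw [h1 i, h2, mul_zero]

theorem exists_pt {v : Fin 3 → ZMod 5} (hv : v ∈ pts) : ∃ x : SL35, pt x = v := by
  rw [pts, Finset.mem_filter] at hv
  obtain ⟨-, h1, h2⟩ := hv
  have key : ∀ x : SL35, (∀ i, x.1 i 0 = v i) → ∃ x : SL35, pt x = v := by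
    intro x hx
    refine ⟨x, ?_⟩
    have : (fun i => x.1 i 0) = v := funext hx
    rw [pt, this, h1]
  by_cases h0 : v 0 = 0
  · by_cases h3 : v 1 = 0
    · have h4 : v 2 ≠ 0 := by
        intro h4
        apply h2
        funext i
        fin_cases i
        · exact h0
        · exact h3
        · exact h4
      refine key ⟨!![v 0, (v 2)⁻¹, 0; v 1, 0, 1; v 2, 0, 0], ?_⟩ fun i => ?_
      · rw [Matrix.det_fin_three]
        simp [h4]
      · fin_cases i <;> rfl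
    · refine key ⟨!![v 0, -(v 1)⁻¹, 0; v 1, 0, 0; v 2, 0, 1], ?_⟩ fun i => ?_
      · rw [Matrix.det_fin_three]
        simp [h3]
      · fin_cases i <;> rfl
  · refine key ⟨!![v 0, 0, 0; v 1, (v 0)⁻¹, 0; v 2, 0, 1], ?_⟩ fun i => ?_
    · rw [Matrix.det_fin_three]
      simp [h0]
    · fin_cases i <;> rfl

/-- the cosets of `P0` are the points -/
noncomputable def quotEquiv : SL35 ⧸ P0 ≃ pts := by
  refine Equiv.ofBijective (fun q => Quotient.liftOn' q (fun x => (⟨pt x, pt_mem x⟩ : pts)) ?_) ⟨?_, ?_⟩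
  · intro x y hxy
    apply Subtype.ext
    exact (pt_eq_iff x y).2 (QuotientGroup.leftRel_apply.1 hxy)
  · intro q q'
    refine Quotient.inductionOn₂' q q' fun x y h => ?_
    apply Quotient.sound'
    rw [QuotientGroup.leftRel_apply]
    exact (pt_eq_iff x y).1 (congrArg Subtype.val h)
  · rintro ⟨v, hv⟩
    obtain ⟨x, rfl⟩ := exists_pt hv
    exact ⟨(x : SL35 ⧸ P0), rfl⟩

theorem card_quot : Nat.card (SL35 ⧸ P0) = 31 := by
  rw [Nat.card_congr quotEquiv, Nat.card_eq_fintype_card, Fintype.card_coe, card_pts]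

instance : Finite (SL35 ⧸ P0) := Finite.of_equiv _ quotEquiv.symm

noncomputable instance instFintypeQuot : Fintype (SL35 ⧸ P0) := Fintype.ofFinite _

/-! ### The projections -/

section Rep

variable {V : Type*} [AddCommGroup V] [Module (ZMod 3) V]

/-- the fixed vectors of a set of elements -/
def fx (ρ : SL35 →* Module.End (ZMod 3) V) (S : Set SL35) : Submodule (ZMod 3) V where
  carrier := {v | ∀ g ∈ S, ρ g v = v}
  zero_mem' := fun g _ => map_zero _
  add_mem' := fun {a b} ha hb g hg => by rw [map_add, ha g hg, hb g hg]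
  smul_mem' := fun c a ha g hg => by rw [map_smul, ha g hg]

theorem mem_fx {ρ : SL35 →* Module.End (ZMod 3) V} {S : Set SL35} {v : V} : v ∈ fx ρ S ↔ ∀ g ∈ S, ρ g v = v := Iff.rfl

/-- the hypotheses -/
structure Hyp (ρ : SL35 →* Module.End (ZMod 3) V) : Prop where
  dimV : finrank (ZMod 3) V = 248
  dim : finrank (ZMod 3) (fx ρ VP) = 8
  zz : ∀ v ∈ fx ρ VP, ρ z0 (ρ z0 v) = -v
  fixS : ∀ v ∈ fx ρ US, v = 0

variable (ρ : SL35 →* Module.End (ZMod 3) V)

theorem rho_mul (g h : SL35) (v : V) : ρ (g * h) v = ρ g (ρ h v) := by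
  rw [map_mul]; rfl

/-- the projection onto the fixed vectors of `VP` -/
def ep : Module.End (ZMod 3) V := ∑ ab : ZMod 5 × ZMod 5, ρ (vp ab.1 ab.2)

theorem ep_apply (v : V) : ep ρ v = ∑ ab : ZMod 5 × ZMod 5, ρ (vp ab.1 ab.2) v := by
  rw [ep, LinearMap.sum_apply]

theorem ep_mem (v : V) : ep ρ v ∈ fx ρ VP := by
  rintro _ ⟨a, b, rfl⟩
  rw [ep_apply, map_sum]
  refine Fintype.sum_equiv (Equiv.addLeft (a, b)) _ _ fun ab => ?_
  rw [← rho_mul, vp_mul]
  rfl

theorem nat_smul_eq (n : ℕ) (hn : (n : ZMod 3) = 1) (v : V) : n • v = v := by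
  rw [← Nat.cast_smul_eq_nsmul (ZMod 3), hn, one_smul]

theorem ep_of_mem {v : V} (hv : v ∈ fx ρ VP) : ep ρ v = v := by
  rw [ep_apply, Finset.sum_congr rfl fun ab _ => hv _ ⟨ab.1, ab.2, rfl⟩, Finset.sum_const, Finset.card_univ]
  exact nat_smul_eq _ (by decide) v

theorem ep_mul_self : ep ρ * ep ρ = ep ρ := by
  ext v
  exact ep_of_mem ρ (ep_mem ρ v)

theorem range_ep : LinearMap.range (ep ρ) = fx ρ VP := by
  ext v
  rw [LinearMap.mem_range]
  exact ⟨fun ⟨w, hw⟩ => hw ▸ ep_mem ρ w, fun hv => ⟨v, ep_of_mem ρ hv⟩⟩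

theorem map_mem_fx {y : SL35} (hy : y ∈ P0) {v : V} (hv : v ∈ fx ρ VP) : ρ y v ∈ fx ρ VP := by
  rintro _ ⟨a, b, rfl⟩
  obtain ⟨a', b', h⟩ := conj_vp (P0.inv_mem hy) a b
  rw [inv_inv] at h
  have e : vp a b * y = y * vp a' b' := by rw [← h]; group
  rw [← rho_mul, e, rho_mul, hv _ ⟨a', b', rfl⟩]

theorem comm_ep {y : SL35} (hy : y ∈ P0) : ρ y * ep ρ = ep ρ * ρ y := by
  classical
  have hne : ∀ ab : ZMod 5 × ZMod 5, ∃ cd : ZMod 5 × ZMod 5, y * vp ab.1 ab.2 * y⁻¹ = vp cd.1 cd.2 := fun ab => by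
    obtain ⟨a', b', h⟩ := conj_vp hy ab.1 ab.2
    exact ⟨(a', b'), h⟩
  choose c hc using hne
  have hvinj : ∀ ab cd : ZMod 5 × ZMod 5, vp ab.1 ab.2 = vp cd.1 cd.2 → ab = cd := by
    intro ab cd h
    have h1 := congrFun (congrFun (congrArg Subtype.val h) 0) 1
    have h2 := congrFun (congrFun (congrArg Subtype.val h) 0) 2
    exact Prod.ext h1 h2
  have hinj : Function.Injective c := by
    intro ab cd h
    apply hvinj
    have h1 := (hc ab).trans ((congrArg (fun q : ZMod 5 × ZMod 5 => vp q.1 q.2) h).trans (hc cd).symm)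
    exact mul_left_cancel (mul_right_cancel h1)
  have hbij : Function.Bijective c := Finite.injective_iff_bijective.1 hinj
  rw [ep, Finset.mul_sum, Finset.sum_mul]
  refine Fintype.sum_equiv (Equiv.ofBijective c hbij) _ _ fun ab => ?_
  rw [← map_mul, ← map_mul]
  congr 1
  show y * vp ab.1 ab.2 = vp (c ab).1 (c ab).2 * y
  rw [← hc ab]
  group

/-- the sum over a transvection group is zero on the fixed vectors of `VP` -/
theorem sum_us {ρ : SL35 →* Module.End (ZMod 3) V} (h : ∀ v ∈ fx ρ US, v = 0) {v : V} (hv : v ∈ fx ρ VP) :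
    ∑ c : ZMod 5, ρ (us 0 0 c) v = 0 := by
  apply h
  rintro _ ⟨a, b, c, rfl⟩
  rw [us_eq, rho_mul]
  have h1 : ρ (vp a b) (∑ d : ZMod 5, ρ (us 0 0 d) v) = ∑ d : ZMod 5, ρ (us 0 0 d) v := by
    rw [map_sum]
    refine Finset.sum_congr rfl fun d _ => ?_
    rw [← rho_mul, vp_us, rho_mul, hv _ ⟨_, _, rfl⟩]
  rw [h1, map_sum]
  refine Fintype.sum_equiv (Equiv.addLeft c) _ _ fun d => ?_
  rw [← rho_mul, us_mul_us]
  rfl

theorem ep_ww {ρ : SL35 →* Module.End (ZMod 3) V} (h : ∀ v ∈ fx ρ US, v = 0) {v : V} (hv : v ∈ fx ρ VP) :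
    ep ρ (ρ ww v) = 0 := by
  rw [ep_apply, Fintype.sum_prod_type]
  refine Finset.sum_eq_zero fun a _ => ?_
  have h1 : ∀ b : ZMod 5, ρ (vp a b) (ρ ww v) = ρ (vp a 0 * ww) (ρ (us 0 0 (-b)) v) := by
    intro b
    have h2 : vp a b = vp a 0 * vp 0 b := by rw [vp_mul, add_zero, zero_add]
    rw [← rho_mul, ← rho_mul, h2, mul_assoc, vp_ww, mul_assoc]
  rw [Finset.sum_congr rfl fun b _ => h1 b, ← map_sum]
  have h3 : ∑ b : ZMod 5, ρ (us 0 0 (-b)) v = ∑ b : ZMod 5, ρ (us 0 0 b) v :=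
    Fintype.sum_equiv (Equiv.neg _) _ _ fun b => rfl
  rw [h3, sum_us h hv, map_zero]

theorem ep_mul_ep {ρ : SL35 →* Module.End (ZMod 3) V} (h : ∀ v ∈ fx ρ US, v = 0) {x : SL35} (hx : x ∉ P0) :
    ep ρ * ρ x * ep ρ = 0 := by
  obtain ⟨y, hy, y', hy', rfl⟩ := exists_bruhat hx
  ext v
  show ep ρ (ρ (y * ww * y') (ep ρ v)) = 0
  have h1 : ρ y' (ep ρ v) ∈ fx ρ VP := map_mem_fx ρ hy' (ep_mem ρ v)
  have h2 := congrArg (fun f : Module.End (ZMod 3) V => f (ρ ww (ρ y' (ep ρ v)))) (comm_ep ρ hy)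
  rw [rho_mul, rho_mul]
  refine h2.symm.trans ?_
  show ρ y (ep ρ (ρ ww (ρ y' (ep ρ v)))) = 0
  rw [ep_ww h h1, map_zero]

/-! ### The 31 idempotents -/

theorem rho_inv_mul (x : SL35) : ρ x⁻¹ * ρ x = 1 := by rw [← map_mul, inv_mul_cancel, map_one]

theorem rho_mul_inv (x : SL35) : ρ x * ρ x⁻¹ = 1 := by rw [← map_mul, mul_inv_cancel, map_one]

/-- the idempotent of the point `q` -/
def eq (q : SL35 ⧸ P0) : Module.End (ZMod 3) V :=
  Quotient.liftOn' q (fun x => ρ x * ep ρ * ρ x⁻¹) (by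
    intro x y hxy
    have h := QuotientGroup.leftRel_apply.1 hxy
    obtain ⟨z, hz⟩ : ∃ z, z = x⁻¹ * y := ⟨_, rfl⟩
    have e : y = x * z := by rw [hz]; group
    show ρ x * ep ρ * ρ x⁻¹ = ρ y * ep ρ * ρ y⁻¹
    have h1 : ρ z * ep ρ = ep ρ * ρ z := comm_ep ρ (hz ▸ h)
    subst e
    rw [map_mul, mul_assoc (ρ x) (ρ z), h1, mul_inv_rev, map_mul ρ z⁻¹]
    calc ρ x * ep ρ * ρ x⁻¹ = ρ x * ep ρ * (ρ z * ρ z⁻¹) * ρ x⁻¹ := by rw [rho_mul_inv, mul_one]
      _ = _ := by simp only [mul_assoc])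

theorem eq_mk (x : SL35) : eq ρ (x : SL35 ⧸ P0) = ρ x * ep ρ * ρ x⁻¹ := rfl

theorem eq_one : eq ρ ((1 : SL35) : SL35 ⧸ P0) = ep ρ := by
  rw [eq_mk, inv_one, map_one, one_mul, mul_one]

theorem eq_mul_self (q : SL35 ⧸ P0) : eq ρ q * eq ρ q = eq ρ q := by
  obtain ⟨x, rfl⟩ := QuotientGroup.mk_surjective q
  rw [eq_mk]
  calc ρ x * ep ρ * ρ x⁻¹ * (ρ x * ep ρ * ρ x⁻¹) = ρ x * ep ρ * (ρ x⁻¹ * ρ x) * ep ρ * ρ x⁻¹ := by
        simp only [mul_assoc]
    _ = ρ x * (ep ρ * ep ρ) * ρ x⁻¹ := by rw [rho_inv_mul, mul_one]; simp only [mul_assoc]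
    _ = _ := by rw [ep_mul_self]

theorem eq_mul_of_ne {ρ : SL35 →* Module.End (ZMod 3) V} (h : ∀ v ∈ fx ρ US, v = 0) {q q' : SL35 ⧸ P0} (hq : q ≠ q') :
    eq ρ q * eq ρ q' = 0 := by
  obtain ⟨x, rfl⟩ := QuotientGroup.mk_surjective q
  obtain ⟨y, rfl⟩ := QuotientGroup.mk_surjective q'
  have hx : x⁻¹ * y ∉ P0 := fun h => hq (QuotientGroup.eq.2 h)
  rw [eq_mk, eq_mk]
  calc ρ x * ep ρ * ρ x⁻¹ * (ρ y * ep ρ * ρ y⁻¹) = ρ x * (ep ρ * (ρ x⁻¹ * ρ y) * ep ρ) * ρ y⁻¹ := by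
        simp only [mul_assoc]
    _ = 0 := by rw [← map_mul, ep_mul_ep h hx, mul_zero, zero_mul]

theorem finrank_range_eq (q : SL35 ⧸ P0) :
    finrank (ZMod 3) (LinearMap.range (eq ρ q)) = finrank (ZMod 3) (fx ρ VP) := by
  obtain ⟨x, rfl⟩ := QuotientGroup.mk_surjective q
  rw [eq_mk]
  let e : V ≃ₗ[ZMod 3] V := LinearEquiv.ofLinearMap (ρ x) (ρ x⁻¹) (rho_mul_inv ρ x) (rho_inv_mul ρ x)
  have h1 : LinearMap.range (ρ x * ep ρ * ρ x⁻¹) = (fx ρ VP).map (e : V →ₗ[ZMod 3] V) := by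
    rw [← range_ep]
    ext v
    rw [LinearMap.mem_range, Submodule.mem_map]
    constructor
    · rintro ⟨w, rfl⟩
      exact ⟨ep ρ (ρ x⁻¹ w), ⟨_, rfl⟩, rfl⟩
    · rintro ⟨_, ⟨w, rfl⟩, rfl⟩
      refine ⟨ρ x w, ?_⟩
      show ρ x (ep ρ (ρ x⁻¹ (ρ x w))) = ρ x (ep ρ w)
      rw [← rho_mul, inv_mul_cancel, map_one]
      rfl
  rw [h1]
  exact LinearEquiv.finrank_map_eq e _

/-- orthogonal idempotents of total rank `dim V` -/
theorem sum_eq_one_of_finrank {k : Type*} [Field k] {V : Type*} [AddCommGroup V] [Module k V] [FiniteDimensional k V]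
    {ι : Type*} [Fintype ι] (e : ι → Module.End k V) (h1 : ∀ i, e i * e i = e i) (h2 : ∀ i j, i ≠ j → e i * e j = 0)
    (h3 : ∑ i, finrank k (LinearMap.range (e i)) = finrank k V) : ∑ i, e i = 1 := by
  classical
  let φ : V →ₗ[k] ∀ i, LinearMap.range (e i) := LinearMap.pi fun i => (e i).rangeRestrict
  have hφ : ∀ v i, ((φ v i : LinearMap.range (e i)) : V) = e i v := fun _ _ => rfl
  have hsurj : Function.Surjective φ := by
    intro w
    choose u hu using fun i => (w i).2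
    refine ⟨∑ i, e i (u i), ?_⟩
    funext i
    apply Subtype.ext
    rw [hφ, map_sum, Finset.sum_eq_single i]
    · have := congrArg (fun f : Module.End k V => f (u i)) (h1 i)
      exact this.trans (hu i)
    · intro j _ hj
      exact congrArg (fun f : Module.End k V => f (u j)) (h2 i j hj.symm)
    · intro h; exact absurd (Finset.mem_univ _) h
  have hfr : finrank k V = finrank k (∀ i, LinearMap.range (e i)) := by
    rw [Module.finrank_pi_fintype]
    exact h3.symm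
  have hinj : Function.Injective φ := (LinearMap.injective_iff_surjective_of_finrank_eq_finrank hfr).2 hsurj
  ext v
  apply hinj
  funext i
  apply Subtype.ext
  rw [hφ, hφ, LinearMap.sum_apply, map_sum, Finset.sum_eq_single i]
  · exact congrArg (fun f : Module.End k V => f v) (h1 i)
  · intro j _ hj
    exact congrArg (fun f : Module.End k V => f v) (h2 i j hj.symm)
  · intro h; exact absurd (Finset.mem_univ _) h

theorem sum_eq [FiniteDimensional (ZMod 3) V] {ρ : SL35 →* Module.End (ZMod 3) V} (h : Hyp ρ) :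
    ∑ q : SL35 ⧸ P0, eq ρ q = 1 := by
  refine sum_eq_one_of_finrank _ (eq_mul_self ρ) (fun q q' hq => eq_mul_of_ne h.fixS hq) ?_
  rw [Finset.sum_congr rfl fun q _ => finrank_range_eq ρ q, Finset.sum_const, Finset.card_univ,
    ← Nat.card_eq_fintype_card, card_quot, h.dim, h.dimV]
  rfl

/-- decomposition of a vector -/
theorem sum_eq_apply [FiniteDimensional (ZMod 3) V] {ρ : SL35 →* Module.End (ZMod 3) V} (h : Hyp ρ) (v : V) :
    ∑ q : SL35 ⧸ P0, eq ρ q v = v := by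
  have h1 := congrArg (fun f : Module.End (ZMod 3) V => f v) (sum_eq h)
  refine Eq.trans ?_ h1
  show _ = (∑ q : SL35 ⧸ P0, eq ρ q) v
  rw [LinearMap.sum_apply]

theorem eq_apply_eq (x : SL35) (v : V) : eq ρ (x : SL35 ⧸ P0) v = ρ x (ep ρ (ρ x⁻¹ v)) := rfl

end Rep

/-! ### Good homomorphisms -/

theorem card_idx : Fintype.card Cfsg.Lie.chevE8.Idx = 248 := by decide +kernel

theorem finrank_idx : finrank (ZMod 3) (Cfsg.Lie.chevE8.Idx → ZMod 3) = 248 := by
  rw [Module.finrank_fintype_fun_eq_card, card_idx]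

/-- the representation of `SL₃(5)` defined by `f` -/
noncomputable def rp (f : SL35 →* G3) : SL35 →* Module.End (ZMod 3) (Cfsg.Lie.chevE8.Idx → ZMod 3) where
  toFun x := ac (f x)
  map_one' := by
    apply LinearMap.ext
    intro v
    rw [map_one, ac_one]
    rfl
  map_mul' x y := by
    apply LinearMap.ext
    intro v
    rw [map_mul, ac_mul]
    rfl

theorem fx_rp (f : SL35 →* G3) (S : Set SL35) : fx (rp f) S = Fx (f '' S) := by
  ext v
  rw [mem_fx, mem_Fx]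
  constructor
  · rintro h _ ⟨g, hg, rfl⟩
    exact h g hg
  · intro h g hg
    exact h _ ⟨g, hg, rfl⟩

theorem hyp_rp {f : SL35 →* G3} (h : Good f) : Hyp (rp f) where
  dimV := finrank_idx
  dim := by rw [fx_rp]; exact h.dim
  zz v hv := h.zz v (by rw [← fx_rp]; exact hv)
  fixS v hv := h.fixS v (by rw [← fx_rp]; exact hv)

end Cfsg.Agent.H602.L5

private theorem dce_85a09ec595d9 : _root_.True := by
  try have : _root_.True := by simp only [_root_.Cfsg.Agent.H602.L5.pts.eq_1]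
  try have : _root_.True := by simp only [_root_.Cfsg.Agent.H602.L5.ep.eq_1]
  try have : _root_.True := by simp only [_root_.Cfsg.Agent.H602.L5.pt.eq_1]
  try have : _root_.True := by simp only [_root_.Cfsg.Agent.H865.L5.vp.eq_1]
  try have : _root_.True := by simp only [_root_.Cfsg.Agent.H602.L5.ww.eq_1]
  try have : _root_.True := by simp only [_root_.Cfsg.Agent.H865.L5.us.eq_1]
  exact _root_.True.intro
end

-- part: H602/L5/U1
section
prune_inst 0x11000004000000000000000100000000400000000000000802002000308000000000000080000000800080000000000001000000000000000000000000500000000000010400000000000000000000000000000000000000000000000000000000000000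
set_option linter.all false
open scoped Cfsg.Agent.FastGrp

-- part: H241/L5/Tor
section
/-!
# S5924, T3 (helper241): `f VL` is conjugate in `GT k` to a regular subset of `T5 k`

* `exists_rp_conj` : families of the torus conjugate in `Y` are conjugate under `N(T)`;
* `reg_VL` : regularity of `g f(VL) g⁻¹ ⊆ T` by counting the pairs (element, killed root);
* `five_of_tor` : the pointwise stabiliser of a regular family of elements of order 5 is a 5-group;
* `lang_sg` : Lang's theorem in the torus for `sg`;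
* `tor_aux`.
-/

set_option autoImplicit false
set_option linter.unusedSectionVars false

namespace Cfsg.Agent.H241.L5

open CoxeterSystem Subgroup Cfsg Cfsg.Lie Cfsg.Lie.ChevalleyDatum
open Cfsg.Agent.ChevalleyStructure Cfsg.Agent.ChevalleyStructure.Elts Cfsg.Agent.ChevalleyStructure.CoxeterGeom
  Cfsg.Agent.ChevalleyStructure.CoxeterGeomTypes Cfsg.Agent.ChevalleyStructure.NPerm
open Cfsg.Agent.Tits.Roots Cfsg.Agent.Tits.Core Cfsg.Agent.Nodes Cfsg.Agent.Nodes.SubComb Cfsg.Agent.Nodes.Reps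
  Cfsg.Agent.Nodes.BNOf Cfsg.Agent.Nodes.RGDChev Cfsg.Agent.Nodes.Bruhat Cfsg.Agent.Nodes.Coroot
open Cfsg.Agent.KFacts.RgdField Cfsg.Agent.KFacts.RgdChevCoord Cfsg.Agent.BpExc.TorCent Cfsg.Agent.BpExc.TorChev
open Cfsg.Agent.GpExc.Field Cfsg.Agent.BpExc.Tow Cfsg.Agent.BpExc.TowChev Cfsg.Agent.BpExc.Fr
  Cfsg.Agent.BpExc.LangFr Cfsg.Agent.BpExc.FamField Cfsg.Agent.BpExc.FamInst Cfsg.Agent.H129.TorusChar
  Cfsg.Agent.H795.LangT Cfsg.Agent.BpExc.FamExt Cfsg.Agent.BpExc.FamUntw Cfsg.Agent.H378.TorDual Cfsg.Agent.H378.TorChar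
  Cfsg.Agent.H378.TorFin Cfsg.Agent.H378.RankOne Cfsg.Agent.H378.RootTor Cfsg.Agent.H865.EE Cfsg.Agent.H865.L5
  Cfsg.Agent.H123.ExcZ

attribute [local irreducible] w8

/-! ### Families of the torus -/

theorem rp_cast {Y : Type*} [Group Y] {I : Type*} {M : CoxeterMatrix I} {W : Type*} [Group W]
    {cs : CoxeterSystem M W} {T T' : Subgroup Y} {n : I → Y} (e : T = T') (hN : NSys M T n) (hN' : NSys M T' n)
    {w : W} {c : Y} (h : Rp cs hN w c) : Rp cs hN' w c := by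
  subst e
  exact h

section Tor

variable {k : Type} [Field k] [CharP k 3] (hk : LocFin k)

include hk in
/-- families of the torus conjugate in the group are conjugate in the normalizer of the torus -/
theorem exists_rp_conj {ι : Type*} [Finite ι] {s t : ι → ↥(chevE8.group k)} (hs : ∀ i, s i ∈ TT chevE8 k)
    (ht : ∀ i, t i ∈ TT chevE8 k) {c : ↥(chevE8.group k)} (hc : ∀ i, c * s i = t i * c) :
    ∃ w n, Rp cs8 (nsysL tp8 cs8 hk 3) w n ∧ (∀ i, n * s i = t i * n) ∧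
      ((∀ a, Rt a → ∃ i, cX tp8 (t i) a ≠ 1) → n = c) := by
  have hWf := finite_W tp8 cs8
  have H := tow tp8 cs8 hk 3
  have C : Coords cs8 tp8.isCartan (TL (Tj tp8 (k := k))) (nc tp8 k) (XL (Xj tp8)) (xc tp8) (ch tp8) := by
    rw [TL_eq tp8 hk, XL_eq tp8 hk]
    exact coordsL tp8 cs8 hk 3
  have hGt := GG_eq_top tp8 cs8 hk
  have hTL := TL_eq (k := k) tp8 hk
  obtain ⟨m, hm, w, n, hn, hns, e⟩ := exists_form' H C (ι := ι) (s := s) (t := t)
    (fun a => by rw [hTL]; exact hs a) (fun a => by rw [hTL]; exact ht a) (c := c)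
    (by rw [hGt]; exact Subgroup.mem_top _) hc
  refine ⟨w, n, rp_cast hTL H.nsys _ hn, hns, fun hreg => ?_⟩
  have hSZ : SZ cs8 tp8.isCartan (ch tp8) t = ∅ := by
    rw [Set.eq_empty_iff_forall_notMem]
    intro a ha
    obtain ⟨i, hi⟩ := hreg a ha.1
    rw [cX_root tp8 cs8 (ht i) ha.1] at hi
    exact hi (ha.2 i)
  have hm1 : m = 1 := by
    have h1 : m ∈ (⊥ : Subgroup ↥(chevE8.group k)) := by
      have h2 : MZ cs8 tp8.isCartan (XL (Xj tp8 (k := k))) (ch tp8) t ≤ ⊥ := by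
        refine RGD.Sup_le fun a ha => ?_
        rw [hSZ] at ha
        exact absurd ha (Set.notMem_empty a)
      exact h2 hm
    exact (Subgroup.mem_bot).1 h1
  rw [e, hm1, one_mul]

theorem rp_conj_TT {w : W8} {c : ↥(chevE8.group k)} (hc : Rp cs8 (nsysL tp8 cs8 hk 3) w c) {t : ↥(chevE8.group k)}
    (ht : t ∈ TT chevE8 k) : c * t * c⁻¹ ∈ TT chevE8 k :=
  (Subgroup.mem_normalizer_iff.1 hc.mem_normalizer t).1 ht

theorem cX_rp3 {w : W8} {c : ↥(chevE8.group k)} (hc : Rp cs8 (nsysL tp8 cs8 hk 3) w c) {t : ↥(chevE8.group k)}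
    (ht : t ∈ TT chevE8 k) (x : Fin 8 → ℤ) : cX tp8 (c * t * c⁻¹) (_root_.Cfsg.Agent.H865.EE.act w x) = cX tp8 t x :=
  cX_rp tp8 cs8 hk 3 hc ht x

theorem act_inv_act (w : W8) (x : Fin 8 → ℤ) : _root_.Cfsg.Agent.H865.EE.act w⁻¹ (_root_.Cfsg.Agent.H865.EE.act w x) = x := by
  rw [← act_mul, inv_mul_cancel, act_one]

theorem act_act_inv (w : W8) (x : Fin 8 → ℤ) : _root_.Cfsg.Agent.H865.EE.act w (_root_.Cfsg.Agent.H865.EE.act w⁻¹ x) = x := by
  rw [← act_mul, mul_inv_cancel, act_one]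

/-! ### The number of roots killed -/

/-- the number of roots killed by `s` -/
noncomputable def KS (s : ↥(chevE8.group k)) : ℕ := Nat.card {a : Fin 8 → ℤ // Rt a ∧ cX tp8 s a = 1}

include hk in
theorem KS_conj {s t c : ↥(chevE8.group k)} (hs : s ∈ TT chevE8 k) (ht : t ∈ TT chevE8 k) (hc : c * s = t * c) :
    KS s = KS t := by
  obtain ⟨w, n, hn, hns, -⟩ := exists_rp_conj hk (ι := Unit) (s := fun _ => s) (t := fun _ => t) (fun _ => hs)
    (fun _ => ht) (c := c) (fun _ => hc)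
  have e : n * s * n⁻¹ = t := by rw [hns ()]; group
  have key : ∀ x, cX tp8 t (_root_.Cfsg.Agent.H865.EE.act w x) = cX tp8 s x := fun x => by
    rw [← e]; exact cX_rp3 hk hn hs x
  refine Nat.card_congr
    { toFun := fun a => ⟨_root_.Cfsg.Agent.H865.EE.act w a.1, rt_act a.2.1 w, by rw [key]; exact a.2.2⟩
      invFun := fun a => ⟨_root_.Cfsg.Agent.H865.EE.act w⁻¹ a.1, rt_act a.2.1 w⁻¹, by rw [← key, act_act_inv]; exact a.2.2⟩
      left_inv := fun a => Subtype.ext (act_inv_act w a.1)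
      right_inv := fun a => Subtype.ext (act_act_inv w a.1) }

/-- the roots -/
abbrev Ph8 := {a : Fin 8 → ℤ // Rt a}

instance finite_Ph8 : Finite Ph8 := RGD.finite_roots (cs := cs8) (h := tp8.isCartan)

noncomputable instance : Fintype Ph8 := Fintype.ofFinite _

open Classical in
theorem KS_eq (s : ↥(chevE8.group k)) : KS s = ∑ a : Ph8, if cX tp8 s a.1 = 1 then 1 else 0 := by
  rw [Finset.sum_boole, Nat.cast_id, KS, ← Fintype.card_subtype, ← Nat.card_eq_fintype_card]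
  refine Nat.card_congr
    { toFun := fun a => ⟨⟨a.1, a.2.1⟩, a.2.2⟩
      invFun := fun a => ⟨a.1.1, a.1.2, a.2⟩
      left_inv := fun a => rfl
      right_inv := fun a => rfl }

/-- additive families of 25 elements of order 5 -/
abbrev A5 := ZMod 5 × ZMod 5

section Count

variable {s : A5 → ↥(chevE8.group k)} (hs : ∀ p, s p ∈ TT chevE8 k) (hm : ∀ p q, s (p + q) = s p * s q)

/-- the character of the root `a` on the family -/
noncomputable def chr (a : Fin 8 → ℤ) : Multiplicative A5 →* kˣ where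
  toFun p := Units.mk0 (cX tp8 (s p.toAdd) a) ((isMC_cX tp8 (hs _)).ne_zero a)
  map_one' := by
    apply Units.ext
    have h1 : s 0 = 1 := by
      have := hm 0 0
      rw [add_zero] at this
      exact left_eq_mul.1 this
    show cX tp8 (s 0) a = 1
    rw [h1, cX_one]
  map_mul' p q := by
    apply Units.ext
    show cX tp8 (s (p.toAdd + q.toAdd)) a = cX tp8 (s p.toAdd) a * cX tp8 (s q.toAdd) a
    rw [hm, cX_mul tp8 (hs _) (hs _)]

include hm in
theorem fam_zero : s 0 = 1 := by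
  have := hm 0 0
  rw [add_zero] at this
  exact left_eq_mul.1 this

theorem card_A5 : Nat.card (Multiplicative A5) = 25 := by
  rw [Nat.card_congr Multiplicative.toAdd, Nat.card_eq_fintype_card, Fintype.card_prod, ZMod.card]

open Classical in
theorem card_ker (a : Fin 8 → ℤ) : Nat.card ↥(chr hs hm a).ker = ∑ p : A5, if cX tp8 (s p) a = 1 then 1 else 0 := by
  rw [Finset.sum_boole, Nat.cast_id, ← Fintype.card_subtype, ← Nat.card_eq_fintype_card]
  refine Nat.card_congr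
    { toFun := fun p => ⟨p.1.toAdd, congrArg Units.val ((MonoidHom.mem_ker).1 p.2)⟩
      invFun := fun p => ⟨Multiplicative.ofAdd p.1, MonoidHom.mem_ker.2 (Units.ext p.2)⟩
      left_inv := fun p => rfl
      right_inv := fun p => rfl }

theorem card_ker_mul (a : Fin 8 → ℤ) : Nat.card ↥(chr hs hm a).ker * Nat.card ↥(chr hs hm a).range = 25 := by
  rw [← Subgroup.index_ker, Subgroup.card_mul_index, card_A5]

theorem card_range_le (a : Fin 8 → ℤ) : Nat.card ↥(chr hs hm a).range ≤ 5 := by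
  have h1 : (chr hs hm a).range ≤ rootsOfUnity 5 k := by
    rintro _ ⟨p, rfl⟩
    rw [mem_rootsOfUnity, ← map_pow]
    have h2 : p ^ 5 = 1 := by
      apply Multiplicative.toAdd.injective
      show (5 : ℕ) • p.toAdd = 0
      generalize p.toAdd = q
      revert q
      decide +kernel
    rw [h2, map_one]
  have h3 : Nat.card ↥(rootsOfUnity 5 k) ≤ 5 := card_rootsOfUnity k 5
  exact (Nat.card_le_card_of_injective _ (Subgroup.inclusion_injective h1)).trans h3

include hs hm in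
open Classical in
theorem five_le_ker (a : Fin 8 → ℤ) : 5 ≤ ∑ p : A5, if cX tp8 (s p) a = 1 then 1 else 0 := by
  rw [← card_ker hs hm]
  have h1 := card_ker_mul hs hm a
  have h2 := card_range_le hs hm a
  by_contra h
  have h3 : Nat.card ↥(chr hs hm a).ker ≤ 4 := by omega
  have h4 := Nat.mul_le_mul h3 h2
  omega

include hs hm in
open Classical in
theorem ker_le_five {a : Fin 8 → ℤ} (h : ∃ p, cX tp8 (s p) a ≠ 1) :
    ∑ p : A5, (if cX tp8 (s p) a = 1 then 1 else 0) ≤ 5 := by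
  rw [← card_ker hs hm]
  have h1 := card_ker_mul hs hm a
  have h2 : Nat.card ↥(chr hs hm a).ker ∣ 25 := ⟨_, h1.symm⟩
  have h3 : Nat.card ↥(chr hs hm a).ker ∈ Nat.divisors 25 := Nat.mem_divisors.2 ⟨h2, by norm_num⟩
  have h4 : Nat.divisors 25 = {1, 5, 25} := by decide
  rw [h4] at h3
  simp only [Finset.mem_insert, Finset.mem_singleton] at h3
  rcases h3 with h3 | h3 | h3
  · omega
  · omega
  · exfalso
    have h5 : (chr hs hm a).ker = ⊤ := by
      apply Subgroup.eq_top_of_card_eq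
      rw [h3, card_A5]
    obtain ⟨p, hp⟩ := h
    have h6 : Multiplicative.ofAdd p ∈ (chr hs hm a).ker := by rw [h5]; exact Subgroup.mem_top _
    exact hp (congrArg Units.val ((MonoidHom.mem_ker).1 h6))

end Count

/-- **Regularity by counting** -/
theorem reg_of_KS {s t : A5 → ↥(chevE8.group k)} (hs : ∀ p, s p ∈ TT chevE8 k) (hsm : ∀ p q, s (p + q) = s p * s q)
    (ht : ∀ p, t p ∈ TT chevE8 k) (htm : ∀ p q, t (p + q) = t p * t q) (hreg : ∀ a, Rt a → ∃ p, cX tp8 (s p) a ≠ 1)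
    (hK : ∀ p, KS (t p) = KS (s p)) {a : Fin 8 → ℤ} (ha : Rt a) : ∃ p, cX tp8 (t p) a ≠ 1 := by
  classical
  by_contra hcon
  push Not at hcon
  have h1 : ∑ p : A5, KS (t p) = ∑ p : A5, KS (s p) := Finset.sum_congr rfl fun p _ => hK p
  have h2 : ∀ u : A5 → ↥(chevE8.group k), ∑ p : A5, KS (u p) =
      ∑ b : Ph8, ∑ p : A5, if cX tp8 (u p) b.1 = 1 then 1 else 0 := fun u => by
    rw [Finset.sum_comm]
    exact Finset.sum_congr rfl fun p _ => KS_eq _
  rw [h2, h2] at h1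
  have h3 : ∑ b : Ph8, ∑ p : A5, (if cX tp8 (s p) b.1 = 1 then 1 else 0) <
      ∑ b : Ph8, ∑ p : A5, (if cX tp8 (t p) b.1 = 1 then 1 else 0) := by
    refine Finset.sum_lt_sum (fun b _ => (ker_le_five hs hsm (hreg b.1 b.2)).trans (five_le_ker ht htm b.1))
      ⟨⟨a, ha⟩, Finset.mem_univ _, lt_of_le_of_lt (ker_le_five hs hsm (hreg a ha)) ?_⟩
    rw [Finset.sum_congr rfl fun p _ => if_pos (hcon p), Finset.sum_const, Finset.card_univ, Fintype.card_prod,
      ZMod.card]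
    norm_num
  omega

/-! ### The elements of `SL₃(5)` -/

/-- every nontrivial element of `VL` is conjugate to `vp 0 1` -/
theorem vl_conj (p : A5) (hp : p ≠ 0) : ∃ x : SL35, x * vl p.1 p.2 = vp 0 1 * x := by
  obtain ⟨a, b⟩ := p
  obtain ⟨c, d, hcd⟩ : ∃ c d : ZMod 5, c * a + d * b = 1 := by
    revert hp
    revert a b
    decide +kernel
  refine ⟨⟨!![c, d, 0; -b, a, 0; 0, 0, 1], by rw [Matrix.det_fin_three]; simp only [_root_.Fin.isValue, _root_.Matrix.of_apply, _root_.Matrix.cons_val', _root_.Matrix.cons_val_zero, _root_.Matrix.cons_val_fin_one, _root_.Matrix.cons_val_one, _root_.Matrix.cons_val, _root_.mul_one, _root_.MulZeroClass.mul_zero, _root_.sub_zero, _root_.mul_neg, _root_.sub_neg_eq_add, _root_.add_zero, _root_.MulZeroClass.zero_mul, _root_.neg_zero]; linear_combination hcd⟩, ?_⟩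
  apply Subtype.ext
  show (!![c, d, 0; -b, a, 0; 0, 0, 1] : Matrix (Fin 3) (Fin 3) (ZMod 5)) * !![1, 0, a; 0, 1, b; 0, 0, 1] =
    !![1, 0, 1; 0, 1, 0; 0, 0, 1] * !![c, d, 0; -b, a, 0; 0, 0, 1]
  ext i j
  (revert i j; simp only [Matrix.mul_apply, Fin.sum_univ_three, _root_.Fin.forall_fin_succ, _root_.Matrix.of_apply, _root_.Matrix.cons_val', _root_.Matrix.cons_val_fin_one, Fin.isValue, _root_.Matrix.cons_val_zero, _root_.Matrix.cons_val_one, _root_.Matrix.cons_val, _root_.mul_one, _root_.MulZeroClass.mul_zero, _root_.add_zero, _root_.mul_neg, _root_.Matrix.cons_val_succ, _root_.zero_add, _root_.forall_const, _root_.one_mul, _root_.MulZeroClass.zero_mul, _root_.neg_zero, _root_.add_eq_right, _root_.neg_mul, _root_.implies_true, _root_.and_true, _root_.true_and]) <;> (repeat' with_reducible apply And.intro)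
  · linear_combination hcd
  · ring

/-- every nontrivial element of `VP` is conjugate to `vp 0 1` -/
theorem vp_conj (p : A5) (hp : p ≠ 0) : ∃ x : SL35, x * vp p.1 p.2 = vp 0 1 * x := by
  obtain ⟨a, b⟩ := p
  obtain ⟨c, d, hcd⟩ : ∃ c d : ZMod 5, c * b - d * a = 1 := by
    revert hp
    revert a b
    decide +kernel
  refine ⟨⟨!![1, 0, 0; 0, c, d; 0, a, b], by rw [Matrix.det_fin_three]; simp; linear_combination hcd⟩, ?_⟩
  apply Subtype.ext
  show (!![1, 0, 0; 0, c, d; 0, a, b] : Matrix (Fin 3) (Fin 3) (ZMod 5)) * !![1, a, b; 0, 1, 0; 0, 0, 1] =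
    !![1, 0, 1; 0, 1, 0; 0, 0, 1] * !![1, 0, 0; 0, c, d; 0, a, b]
  ext i j
  simp only [Cfsg.Agent.Lib.MatLit.p3] <;> fin_cases i <;> fin_cases j <;> simp [Matrix.mul_apply, Fin.sum_univ_three]

theorem vl_add (p q : A5) : vl (p + q).1 (p + q).2 = vl p.1 p.2 * vl q.1 q.2 := by
  apply Subtype.ext
  show (!![1, 0, p.1 + q.1; 0, 1, p.2 + q.2; 0, 0, 1] : Matrix (Fin 3) (Fin 3) (ZMod 5)) =
    !![1, 0, p.1; 0, 1, p.2; 0, 0, 1] * !![1, 0, q.1; 0, 1, q.2; 0, 0, 1]
  ext i j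
  (simp only [Cfsg.Agent.Lib.MatLit.p3]; revert i j; simp only [Cfsg.Agent.Lib.MatLit.one3, Cfsg.Agent.Lib.MatLit.zero3, Cfsg.Agent.Lib.MatLit.ext3]; and_intros) <;> simp [Matrix.mul_apply, Fin.sum_univ_three, add_comm]

theorem vp_add (p q : A5) : vp (p + q).1 (p + q).2 = vp p.1 p.2 * vp q.1 q.2 := by
  apply Subtype.ext
  show (!![1, p.1 + q.1, p.2 + q.2; 0, 1, 0; 0, 0, 1] : Matrix (Fin 3) (Fin 3) (ZMod 5)) =
    !![1, p.1, p.2; 0, 1, 0; 0, 0, 1] * !![1, q.1, q.2; 0, 1, 0; 0, 0, 1]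
  ext i j
  (simp only [Cfsg.Agent.Lib.MatLit.p3]; revert i j; simp only [Cfsg.Agent.Lib.MatLit.one3, Cfsg.Agent.Lib.MatLit.zero3, Cfsg.Agent.Lib.MatLit.ext3]; and_intros) <;> simp [Matrix.mul_apply, Fin.sum_univ_three, add_comm]

include hk in
/-- **Regularity of `g f(VL) g⁻¹`** -/
theorem reg_VL {f : SL35 →* ↥(chevE8.group k)} (hT : ∀ s ∈ VP, f s ∈ TT chevE8 k) (hreg : Reg (f '' VP))
    {g : ↥(chevE8.group k)} (hg : ∀ s ∈ VL, g * f s * g⁻¹ ∈ TT chevE8 k) {a : Fin 8 → ℤ} (ha : Rt a) :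
    ∃ p : A5, cX tp8 (g * f (vl p.1 p.2) * g⁻¹) a ≠ 1 := by
  have h1 : ∀ p : A5, f (vp p.1 p.2) ∈ TT chevE8 k := fun p => hT _ ⟨_, _, rfl⟩
  have h2 : ∀ p : A5, g * f (vl p.1 p.2) * g⁻¹ ∈ TT chevE8 k := fun p => hg _ ⟨_, _, rfl⟩
  refine reg_of_KS (s := fun p => f (vp p.1 p.2)) (t := fun p => g * f (vl p.1 p.2) * g⁻¹) h1
    (fun p q => by show f _ = _; rw [vp_add, map_mul]) h2
    (fun p q => by show g * f _ * g⁻¹ = _; rw [vl_add, map_mul]; group) (fun b hb => ?_) (fun p => ?_) ha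
  · obtain ⟨_, ⟨_, ⟨c, d, rfl⟩, rfl⟩, h⟩ := hreg b hb
    exact ⟨(c, d), h⟩
  · show KS (g * f (vl p.1 p.2) * g⁻¹) = KS (f (vp p.1 p.2))
    by_cases hp : p = 0
    · have e1 : vl p.1 p.2 = 1 := by
        subst hp
        apply Subtype.ext
        show (!![1, 0, 0; 0, 1, 0; 0, 0, 1] : Matrix (Fin 3) (Fin 3) (ZMod 5)) = 1
        ext i j
        fin_cases i <;> fin_cases j <;> rfl
      have e2 : vp p.1 p.2 = 1 := by
        subst hp
        apply Subtype.ext
        show (!![1, 0, 0; 0, 1, 0; 0, 0, 1] : Matrix (Fin 3) (Fin 3) (ZMod 5)) = 1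
        ext i j
        fin_cases i <;> fin_cases j <;> rfl
      rw [e1, e2, map_one, mul_one, mul_inv_cancel]
    · obtain ⟨x, hx⟩ := vl_conj p hp
      obtain ⟨y, hy⟩ := vp_conj p hp
      refine KS_conj hk (h2 p) (h1 p) (c := f y⁻¹ * f x * g⁻¹) ?_
      have e1 : f x * f (vl p.1 p.2) = f (vp 0 1) * f x := by rw [← map_mul, hx, map_mul]
      have e2 : f y * f (vp p.1 p.2) = f (vp 0 1) * f y := by rw [← map_mul, hy, map_mul]
      have e3 : (f y)⁻¹ * f (vp 0 1) = f (vp p.1 p.2) * (f y)⁻¹ := by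
        rw [inv_mul_eq_iff_eq_mul, ← mul_assoc, e2, mul_inv_cancel_right]
      calc f y⁻¹ * f x * g⁻¹ * (g * f (vl p.1 p.2) * g⁻¹) = (f y)⁻¹ * (f x * f (vl p.1 p.2)) * g⁻¹ := by
            rw [map_inv]; group
        _ = ((f y)⁻¹ * f (vp 0 1)) * f x * g⁻¹ := by rw [e1]; group
        _ = _ := by rw [e3, map_inv]; group

/-! ### The pointwise stabiliser -/

/-- **B4 in the torus** -/
theorem five_of_tor {ι : Type*} {s : ι → ↥(chevE8.group k)} (hs : ∀ i, s i ∈ TT chevE8 k) (h5 : ∀ i, s i ^ 5 = 1)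
    (hreg : ∀ a, Rt a → ∃ i, cX tp8 (s i) a ≠ 1) {w : W8}
    (hw : ∀ i x, cX tp8 (s i) (_root_.Cfsg.Agent.H865.EE.act w x) = cX tp8 (s i) x) : ∃ n : ℕ, w ^ 5 ^ n = 1 := by
  have hpos := orderOf_pos w
  obtain ⟨n, m, hm, ho⟩ := Nat.exists_eq_pow_mul_and_not_dvd hpos.ne' 5 (by norm_num)
  refine ⟨n, ?_⟩
  by_contra hv
  have hm0 : 0 < m := Nat.pos_of_ne_zero (by rintro rfl; exact hm (dvd_zero 5))
  have hl : (w ^ 5 ^ n) ^ m = 1 := by rw [← pow_mul, ← ho, pow_orderOf_eq_one]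
  obtain ⟨a, ha, hsum⟩ := Cfsg.Agent.BpExc.Fix.exists_root_sum_eq_zero (cs := cs8) (h := tp8.isCartan) hv hm0 hl
  obtain ⟨i, hne⟩ := hreg a ha
  have hmc := isMC_cX tp8 (hs i)
  -- the powers of `w`
  have hpow : ∀ k : ℕ, ∀ x, cX tp8 (s i) (_root_.Cfsg.Agent.H865.EE.act (w ^ k) x) = cX tp8 (s i) x := by
    intro k
    induction k with
    | zero => intro x; rw [pow_zero, act_one]
    | succ k ih => intro x; rw [pow_succ, act_mul, ih, hw i]
  apply hne
  have h1 : cX tp8 (s i) (∑ j ∈ Finset.range m, _root_.Cfsg.Agent.H865.EE.act ((w ^ 5 ^ n) ^ j) a) = cX tp8 (s i) a ^ m := by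
    rw [hmc.sum, Finset.prod_congr rfl (fun j _ => by rw [← pow_mul, hpow] :
      ∀ j ∈ Finset.range m, cX tp8 (s i) (_root_.Cfsg.Agent.H865.EE.act ((w ^ 5 ^ n) ^ j) a) = cX tp8 (s i) a), Finset.prod_const,
      Finset.card_range]
  have h2 : cX tp8 (s i) a ^ m = 1 := by
    rw [← h1]
    have h3 : ∑ j ∈ Finset.range m, _root_.Cfsg.Agent.H865.EE.act ((w ^ 5 ^ n) ^ j) a = 0 := hsum
    rw [h3, hmc.zero]
  have h4 : cX tp8 (s i) a ^ 5 = 1 := by rw [← cX_pow tp8 (hs i), h5, cX_one]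
  have h6 : orderOf (cX tp8 (s i) a) = 1 := by
    have h7 := orderOf_dvd_of_pow_eq_one h2
    have h8 := orderOf_dvd_of_pow_eq_one h4
    have h9 : Nat.Coprime m 5 := ((Nat.Prime.coprime_iff_not_dvd (by norm_num)).2 hm).symm
    have h10 := Nat.dvd_gcd h7 h8
    rw [h9.gcd_eq_one] at h10
    exact Nat.dvd_one.1 h10
  exact orderOf_eq_one_iff.1 h6

end Tor

/-! ### The endomorphism `sg` on the torus -/

section Sg

variable {k : Type} [Field k] [CharP k 3] [IsAlgClosed k] [PerfectRing k 3] (hk : LocFin k)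

theorem sg_apply (y : ↥(chevE8.group k)) : sg k y = n0 k * phi chevE8 k 3 1 y * (n0 k)⁻¹ := rfl

theorem phi_TT3 {t : ↥(chevE8.group k)} (ht : t ∈ TT chevE8 k) (m : ℕ) : phi chevE8 k 3 m t = t ^ 3 ^ m := by
  rw [Subgroup.mem_subgroupOf] at ht
  obtain ⟨χ, hχ⟩ := HMatDiagAll.mem_torus.1 (HMatDiagAll.diagonalSubgroup_le_torus tp8.inList ht)
  apply Subtype.ext
  apply Units.ext
  rw [phi_coe, Subgroup.coe_pow, Units.val_pow_eq_pow_val, hχ, Matrix.diagonal_pow]
  ext i j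
  rw [Matrix.map_apply]
  by_cases hij : i = j
  · subst hij
    rw [Matrix.diagonal_apply_eq, Matrix.diagonal_apply_eq]
    rfl
  · rw [Matrix.diagonal_apply_ne _ hij, Matrix.diagonal_apply_ne _ hij, zero_pow (pow_ne_zero _ three_ne_zero)]

include hk in
theorem sg_TT {t : ↥(chevE8.group k)} (ht : t ∈ TT chevE8 k) : sg k t ∈ TT chevE8 k := by
  rw [sg_apply, phi_TT3 ht]
  exact rp_conj_TT hk (n0_rp hk) (pow_mem ht _)

include hk in
theorem cX_sg {t : ↥(chevE8.group k)} (ht : t ∈ TT chevE8 k) (x : Fin 8 → ℤ) :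
    cX tp8 (sg k t) x = cX tp8 t (_root_.Cfsg.Agent.H865.EE.act w8 x) ^ 3 := by
  rw [sg_apply, phi_TT3 ht, pow_one, ← cX_pow tp8 ht, ← cX_rp3 hk (n0_rp hk) (pow_mem ht 3), act_inv_act]

include hk in
/-- **Lang's theorem in the torus** -/
theorem lang_sg {c : ↥(chevE8.group k)} (hc : c ∈ TT chevE8 k) : ∃ b ∈ TT chevE8 k, c = sg k b * b⁻¹ := by
  obtain ⟨u, hu, hu80⟩ := Cfsg.Agent.H795.LangT.exists_root tp8 invC_E8 one_ne_zero hc (n := 80) (by norm_num)
  have h1 := sg_TT hk hu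
  have h2 := sg_TT hk h1
  have h3 := sg_TT hk h2
  have h4 := sg_TT hk h3
  have e4 : sg k (sg k (sg k (sg k u))) = u ^ 81 := by
    refine cX_inj tp8 h4 (pow_mem hu _) fun i => ?_
    rw [cX_sg hk h3, cX_sg hk h2, cX_sg hk h1, cX_sg hk hu, cX_pow tp8 hu, w8_sq, w8_sq, neg_neg,
      ← pow_mul, ← pow_mul, ← pow_mul]
  have hcm := TT_comm (K := k) tp8
  refine ⟨u * sg k u * sg k (sg k u) * sg k (sg k (sg k u)), mul_mem (mul_mem (mul_mem hu h1) h2) h3, ?_⟩
  obtain ⟨A, hA⟩ : ∃ A, A = sg k u * sg k (sg k u) * sg k (sg k (sg k u)) := ⟨_, rfl⟩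
  have hAT : A ∈ TT chevE8 k := by rw [hA]; exact mul_mem (mul_mem h1 h2) h3
  rw [map_mul, map_mul, map_mul, e4, ← hA, mul_assoc u, mul_assoc u, ← hA, hcm u hu A hAT, mul_inv_rev,
    show (81 : ℕ) = 80 + 1 by norm_num, pow_succ, hu80]
  calc c = A * (c * A⁻¹) := by rw [hcm c hc _ (inv_mem hAT)]; group
    _ = _ := by
      group

include hk in
/-- the elements of `T` with `s (w8 x) = s(x)²` -/
theorem mem_T5_of {t : ↥(chevE8.group k)} (ht : t ∈ TT chevE8 k)
    (h : ∀ x, cX tp8 t (_root_.Cfsg.Agent.H865.EE.act w8 x) = cX tp8 t x ^ 2) : t ∈ T5 k := by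
  have h5 : ∀ x, cX tp8 t x ^ 5 = 1 := by
    intro x
    have h1 := h (_root_.Cfsg.Agent.H865.EE.act w8 x)
    rw [w8_sq, h, (isMC_cX tp8 ht).neg, ← pow_mul] at h1
    have h0 := (isMC_cX tp8 ht).ne_zero x
    calc cX tp8 t x ^ 5 = cX tp8 t x ^ (2 * 2) * cX tp8 t x := by ring
      _ = 1 := by rw [← h1, inv_mul_cancel₀ h0]
  refine ⟨⟨ht, ?_⟩, ?_⟩
  · show sg k t = t
    refine cX_inj tp8 (sg_TT hk ht) ht fun i => ?_
    rw [cX_sg hk ht, h, ← pow_mul, show 2 * 3 = 5 + 1 by norm_num, pow_succ, h5, one_mul]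
  · refine cX_inj tp8 (pow_mem ht 5) (one_mem _) fun i => ?_
    rw [cX_pow tp8 ht, h5, cX_one]

include hk in
theorem rp_inj {w w' : W8} {c : ↥(chevE8.group k)} (h : Rp cs8 (nsysL tp8 cs8 hk 3) w c)
    (h' : Rp cs8 (nsysL tp8 cs8 hk 3) w' c) : w = w' := by
  refine act_ext fun x => cX_sep tp8 (k := k) invC_E8 one_ne_zero fun t ht => ?_
  have h1 : c⁻¹ * t * c ∈ TT chevE8 k := by
    have := rp_conj_TT hk h.inv ht
    rwa [inv_inv] at this
  have e : c * (c⁻¹ * t * c) * c⁻¹ = t := by group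
  have h2 := cX_rp3 hk h h1 x
  have h3 := cX_rp3 hk h' h1 x
  rw [e] at h2 h3
  rw [h2, h3]

/-! ### The element `diag(3, 3, 4)` -/

/-- `diag(3, 3, 4)` -/
def zl : SL35 := ⟨!![3, 0, 0; 0, 3, 0; 0, 0, 4], by
  rw [Matrix.det_fin_three]
  decide⟩

theorem zl_vl (p : A5) : zl * vl p.1 p.2 = vl p.1 p.2 * vl p.1 p.2 * zl := by
  apply Subtype.ext
  show (!![3, 0, 0; 0, 3, 0; 0, 0, 4] : Matrix (Fin 3) (Fin 3) (ZMod 5)) * !![1, 0, p.1; 0, 1, p.2; 0, 0, 1] =
    !![1, 0, p.1; 0, 1, p.2; 0, 0, 1] * !![1, 0, p.1; 0, 1, p.2; 0, 0, 1] * !![3, 0, 0; 0, 3, 0; 0, 0, 4]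
  have key : ∀ a : ZMod 5, 3 * a = a * 4 + a * 4 := by decide
  ext i j
  (revert i j; simp only [add_mul, key, Nat.reduceAdd, _root_.one_smul, _root_.zero_smul, _root_.smul_eq_mul, Cfsg.Agent.Lib.MatLit.r3]) <;> (repeat' with_reducible apply And.intro) <;> decide

theorem zl_four : zl * zl * zl * zl = 1 := by
  apply Subtype.ext
  show (!![3, 0, 0; 0, 3, 0; 0, 0, 4] : Matrix (Fin 3) (Fin 3) (ZMod 5)) * !![3, 0, 0; 0, 3, 0; 0, 0, 4] *
    !![3, 0, 0; 0, 3, 0; 0, 0, 4] * !![3, 0, 0; 0, 3, 0; 0, 0, 4] = 1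
  decide +kernel

theorem vl_five (p : A5) : vl p.1 p.2 ^ 5 = 1 := by
  have h1 : ∀ n : ℕ, vl p.1 p.2 ^ n = vl (n • p).1 (n • p).2 := by
    intro n
    induction n with
    | zero =>
      rw [pow_zero, zero_smul]
      apply Subtype.ext
      show (1 : Matrix (Fin 3) (Fin 3) (ZMod 5)) = !![1, 0, 0; 0, 1, 0; 0, 0, 1]
      ext i j
      fin_cases i <;> fin_cases j <;> rfl
    | succ n ih => rw [pow_succ, ih, succ_nsmul, vl_add]
  have h2 : ∀ q : A5, (5 : ℕ) • q = 0 := by decide +kernel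
  rw [h1, h2]
  apply Subtype.ext
  show !![1, 0, 0; 0, 1, 0; 0, 0, 1] = (1 : Matrix (Fin 3) (Fin 3) (ZMod 5))
  ext i j
  fin_cases i <;> fin_cases j <;> rfl

theorem vl_inj {p q : A5} (h : vl p.1 p.2 = vl q.1 q.2) : p = q := by
  have h1 := congrArg (fun g : SL35 => g.1 0 2) h
  have h2 := congrArg (fun g : SL35 => g.1 1 2) h
  exact Prod.ext h1 h2

/-! ### Assembly -/

variable {f : SL35 →* ↥(chevE8.group k)}

include hk in
theorem exists_omega (hT : ∀ s ∈ VP, f s ∈ TT chevE8 k) (hreg : Reg (f '' VP)) {g : ↥(chevE8.group k)}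
    (hg : ∀ s ∈ VL, g * f s * g⁻¹ ∈ TT chevE8 k) :
    ∃ ω : W8, Rp cs8 (nsysL tp8 cs8 hk 3) ω (g * f zl * g⁻¹) ∧ ∀ x, _root_.Cfsg.Agent.H865.EE.act ω (_root_.Cfsg.Agent.H865.EE.act ω x) = -x := by
  obtain ⟨S, hS⟩ : ∃ S : A5 → ↥(chevE8.group k), ∀ p, S p = g * f (vl p.1 p.2) * g⁻¹ := ⟨_, fun _ => rfl⟩
  have hST : ∀ p, S p ∈ TT chevE8 k := fun p => by rw [hS]; exact hg _ ⟨_, _, rfl⟩
  have hSreg : ∀ a, Rt a → ∃ p, cX tp8 (S p) a ≠ 1 := fun a ha => by
    obtain ⟨p, hp⟩ := reg_VL hk hT hreg hg ha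
    exact ⟨p, by rw [hS]; exact hp⟩
  have hS5 : ∀ p, S p ^ 5 = 1 := fun p => by
    rw [hS, conj_pow, ← map_pow, vl_five, map_one, mul_one, mul_inv_cancel]
  have hX5 : ∀ p x, cX tp8 (S p) x ^ 5 = 1 := fun p x => by rw [← cX_pow tp8 (hST p), hS5, cX_one]
  obtain ⟨c, hc⟩ : ∃ c, c = g * f zl * g⁻¹ := ⟨_, rfl⟩
  rw [← hc]
  have hcS : ∀ p, c * S p = (S p * S p) * c := fun p => by
    have e := congrArg f (zl_vl p)
    rw [map_mul, map_mul, map_mul] at e
    rw [hc, hS]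
    calc g * f zl * g⁻¹ * (g * f (vl p.1 p.2) * g⁻¹) = g * (f zl * f (vl p.1 p.2)) * g⁻¹ := by group
      _ = _ := by rw [e]; group
  have hX2 : ∀ p x, cX tp8 (S p * S p) x = cX tp8 (S p) x ^ 2 := fun p x => by
    rw [cX_mul tp8 (hST p) (hST p), sq]
  obtain ⟨ω, n, hn, -, hnc⟩ := exists_rp_conj hk (s := S) (t := fun p => S p * S p) hST
    (fun p => mul_mem (hST p) (hST p)) hcS
  have hnc := hnc fun a ha => by
    obtain ⟨p, hp⟩ := hSreg a ha
    refine ⟨p, fun h1 => hp ?_⟩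
    rw [hX2] at h1
    calc cX tp8 (S p) a = cX tp8 (S p) a ^ 5 * ((cX tp8 (S p) a ^ 2) ^ 2)⁻¹ := by
          have h0 := (isMC_cX tp8 (hST p)).ne_zero a
          field_simp
      _ = 1 := by rw [hX5, h1]; norm_num
  rw [hnc] at hn
  refine ⟨ω, hn, ?_⟩
  have hω : ∀ p x, cX tp8 (S p) (_root_.Cfsg.Agent.H865.EE.act ω x) = cX tp8 (S p) x ^ 3 := fun p x => by
    have h1 := cX_rp3 hk hn (hST p) x
    rw [hcS, mul_inv_cancel_right, hX2] at h1
    rw [← h1, ← pow_mul, show 2 * 3 = 5 + 1 by norm_num, pow_succ, hX5, one_mul]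
  -- `ω⁴ = 1`
  have hω4 : ω * ω * ω * ω = 1 := by
    have h1 := ((hn.mul hn).mul hn).mul hn
    have h2 : c * c * c * c = 1 := by
      rw [hc]
      calc g * f zl * g⁻¹ * (g * f zl * g⁻¹) * (g * f zl * g⁻¹) * (g * f zl * g⁻¹) =
          g * (f zl * f zl * f zl * f zl) * g⁻¹ := by group
        _ = 1 := by rw [← map_mul, ← map_mul, ← map_mul, zl_four, map_one]; group
    rw [h2] at h1
    exact rp_inj hk h1 rp_one
  -- `γ = w8² ω²`
  obtain ⟨γ, hγ⟩ : ∃ γ : W8, γ = w8 * w8 * (ω * ω) := ⟨_, rfl⟩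
  have hγa : ∀ x, _root_.Cfsg.Agent.H865.EE.act γ x = -_root_.Cfsg.Agent.H865.EE.act ω (_root_.Cfsg.Agent.H865.EE.act ω x) := fun x => by
    rw [hγ, act_mul, act_mul, act_mul, w8_sq]
  obtain ⟨m, hm⟩ := five_of_tor hST hS5 hSreg (w := γ) fun p x => by
    rw [hγa, (isMC_cX tp8 (hST p)).neg, hω, hω, ← pow_mul]
    have h0 := (isMC_cX tp8 (hST p)).ne_zero x
    refine inv_eq_of_mul_eq_one_right ?_
    calc cX tp8 (S p) x ^ (3 * 3) * cX tp8 (S p) x = (cX tp8 (S p) x ^ 5) ^ 2 := by ring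
      _ = 1 := by rw [hX5, one_pow]
  have hγ2 : γ * γ = 1 := by
    refine act_ext fun x => ?_
    rw [act_mul, hγa, hγa, map_neg, map_neg, neg_neg, act_one, ← act_mul, ← act_mul, ← act_mul, hω4, act_one]
  have hγ1 : γ = 1 := by
    obtain ⟨j, hj⟩ : ∃ j, 5 ^ m = 2 * j + 1 := by
      have : Odd (5 ^ m) := Odd.pow (by decide)
      exact this
    rw [hj, pow_succ, pow_mul, sq, hγ2, one_pow, one_mul] at hm
    exact hm
  intro x
  have h1 := hγa x
  rw [hγ1, act_one] at h1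
  exact neg_eq_iff_eq_neg.1 h1.symm

/-- `w` commutes with `w8` -/
theorem mem_CW_of_rp {g : ↥(chevE8.group k)} (hr : ∀ x, f x ∈ GT k)
    (hz : Rp cs8 (nsysL tp8 cs8 hk 3) w8⁻¹ (g * f zl * g⁻¹)) {w : W8}
    (hw : Rp cs8 (nsysL tp8 cs8 hk 3) w (sg k g * g⁻¹)) : w ∈ CW := by
  obtain ⟨z, hzz⟩ : ∃ z, z = g * f zl * g⁻¹ := ⟨_, rfl⟩
  rw [← hzz] at hz
  have hfz : sg k (f zl) = f zl := hr zl
  have e1 : sg k z = (sg k g * g⁻¹) * z * (sg k g * g⁻¹)⁻¹ := by
    rw [hzz, map_mul, map_mul, map_inv, hfz]; group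
  have h1 := (hw.mul hz).mul hw.inv
  rw [← e1] at h1
  -- compare the characters
  have h2 : w8 * w8 * (w * w8⁻¹ * w⁻¹) = w8 := by
    refine act_ext fun y => cX_sep tp8 (k := k) invC_E8 one_ne_zero fun t ht => ?_
    have h3 := sg_TT hk ht
    have h4 := rp_conj_TT hk hz ht
    have h5 := cX_rp3 hk h1 h3 y
    have e2 : sg k z * sg k t * (sg k z)⁻¹ = sg k (z * t * z⁻¹) := by rw [map_mul, map_mul, map_inv]
    rw [e2, cX_sg hk h4, cX_sg hk ht] at h5
    have h6 : cX tp8 (z * t * z⁻¹) (_root_.Cfsg.Agent.H865.EE.act w8 (_root_.Cfsg.Agent.H865.EE.act (w * w8⁻¹ * w⁻¹) y)) = cX tp8 t (_root_.Cfsg.Agent.H865.EE.act w8 y) :=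
      frobenius_inj k 3 h5
    have h7 := cX_rp3 hk hz ht (_root_.Cfsg.Agent.H865.EE.act w8 (_root_.Cfsg.Agent.H865.EE.act w8 (_root_.Cfsg.Agent.H865.EE.act (w * w8⁻¹ * w⁻¹) y)))
    rw [act_inv_act, h6] at h7
    rw [act_mul, act_mul]
    exact h7.symm
  rw [CW, Subgroup.mem_centralizer_singleton_iff]
  have h3 : w8 * w * w8⁻¹ * w⁻¹ = 1 := by
    have h4 : w8 * (w8 * w * w8⁻¹ * w⁻¹) = w8 := by
      calc w8 * (w8 * w * w8⁻¹ * w⁻¹) = w8 * w8 * (w * w8⁻¹ * w⁻¹) := by group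
        _ = w8 := h2
    exact mul_eq_left.1 h4
  calc w * w8 = (w8 * w * w8⁻¹ * w⁻¹) * w * w8 := by rw [h3, one_mul]
    _ = w8 * w := by group

/-- the hypotheses on `CW` used: `five_elt`, `fix_line` (S5923, B) -/
theorem eq_one_of_fixes
    (five_elt : ∀ {u : W8}, u ∈ CW → ∀ {n : ℕ}, u ^ 5 ^ n = 1 → u ^ 5 = 1)
    (fix_line : ∀ {u : W8}, u ∈ CW → u ^ 5 = 1 → u ≠ 1 → ∀ {φ ψ : Module.Dual (ZMod 5) (Fin 4 → ZMod 5)},
      (∀ x, φ (_root_.Cfsg.Agent.H865.EE.PP (_root_.Cfsg.Agent.H865.EE.act u x)) = φ (_root_.Cfsg.Agent.H865.EE.PP x)) → (∀ x, ψ (_root_.Cfsg.Agent.H865.EE.PP (_root_.Cfsg.Agent.H865.EE.act u x)) = ψ (_root_.Cfsg.Agent.H865.EE.PP x)) → φ ≠ 0 → ∃ c : ZMod 5, ψ = c • φ)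
    {ζ : k} (hζ : IsPrimitiveRoot ζ 5) {e : Module.Dual (ZMod 5) (Fin 4 → ZMod 5) → ↥(chevE8.group k)}
    (hr : Set.range e = T5 k) (he : ∀ φ x, cX tp8 (e φ) x = ζ ^ (φ (_root_.Cfsg.Agent.H865.EE.PP x)).val)
    {S : A5 → ↥(chevE8.group k)} (hS : ∀ p, S p ∈ T5 k) (hSm : ∀ p q, S (p + q) = S p * S q)
    (hSi : Function.Injective S) (hreg : ∀ a, Rt a → ∃ p, cX tp8 (S p) a ≠ 1) {w : W8} (hw : w ∈ CW)
    (hfix : ∀ p x, cX tp8 (S p) (_root_.Cfsg.Agent.H865.EE.act w x) = cX tp8 (S p) x) : w = 1 := by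
  have hST : ∀ p, S p ∈ TT chevE8 k := fun p => (hS p).1.1
  obtain ⟨n, hn⟩ := five_of_tor hST (fun p => (hS p).2) hreg hfix
  have h5 := five_elt hw hn
  by_contra hw1
  have hφ : ∀ p, ∃ φ, e φ = S p := fun p => by
    have := hS p
    rw [← hr] at this
    exact this
  choose φ hφ using hφ
  have hzinj : ∀ a b : ZMod 5, ζ ^ a.val = ζ ^ b.val → a = b := fun a b hab =>
    ZMod.val_injective 5 (hζ.pow_inj (ZMod.val_lt a) (ZMod.val_lt b) hab)
  have hfx : ∀ p x, φ p (_root_.Cfsg.Agent.H865.EE.PP (_root_.Cfsg.Agent.H865.EE.act w x)) = φ p (_root_.Cfsg.Agent.H865.EE.PP x) := fun p x => by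
    apply hzinj
    rw [← he, ← he, hφ, hfix]
  have h1 : φ (1, 0) ≠ 0 := by
    intro h0
    have h2 : S (1, 0) = S 0 := by
      refine cX_inj tp8 (hST _) (hST _) fun i => ?_
      rw [← hφ (1, 0), he, h0, fam_zero hSm, cX_one, LinearMap.zero_apply, ZMod.val_zero, pow_zero]
    exact absurd (hSi h2) (by decide)
  obtain ⟨c, hc⟩ := fix_line hw h5 hw1 (hfx (1, 0)) (hfx (0, 1)) h1
  have hpow : ∀ m : ℕ, S (1, 0) ^ m = S (m • (1, 0)) := by
    intro m
    induction m with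
    | zero => rw [pow_zero, zero_smul, fam_zero hSm]
    | succ m ih => rw [pow_succ, ih, succ_nsmul, hSm]
  have h3 : S (0, 1) = S (c.val • (1, 0)) := by
    rw [← hpow]
    refine cX_inj tp8 (hST _) (pow_mem (hST _) _) fun i => ?_
    rw [cX_pow tp8 (hST _), ← hφ (0, 1), ← hφ (1, 0), he, he, hc, LinearMap.smul_apply, smul_eq_mul, ← pow_mul,
      ZMod.val_mul, mul_comm (ZMod.val _)]
    exact pow_eq_pow_of_modEq (Nat.mod_modEq _ _) hζ.pow_eq_one
  have h4 := congrArg Prod.snd (hSi h3)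
  rw [Prod.smul_snd, smul_zero] at h4
  exact absurd h4 (by decide)

include hk in
/-- **TOR**, from T0, T2, B1, B5 and A2 -/
theorem tor_of
    (conj_w8 : ∀ {ω : W8}, (∀ x, _root_.Cfsg.Agent.H865.EE.act ω (_root_.Cfsg.Agent.H865.EE.act ω x) = -x) → ∃ v : W8, v * ω * v⁻¹ = w8)
    (toral_VL : ∃ g : ↥(chevE8.group k), ∀ s ∈ VL, g * f s * g⁻¹ ∈ TT chevE8 k)
    (five_elt : ∀ {u : W8}, u ∈ CW → ∀ {n : ℕ}, u ^ 5 ^ n = 1 → u ^ 5 = 1)
    (fix_line : ∀ {u : W8}, u ∈ CW → u ^ 5 = 1 → u ≠ 1 → ∀ {φ ψ : Module.Dual (ZMod 5) (Fin 4 → ZMod 5)},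
      (∀ x, φ (_root_.Cfsg.Agent.H865.EE.PP (_root_.Cfsg.Agent.H865.EE.act u x)) = φ (_root_.Cfsg.Agent.H865.EE.PP x)) → (∀ x, ψ (_root_.Cfsg.Agent.H865.EE.PP (_root_.Cfsg.Agent.H865.EE.act u x)) = ψ (_root_.Cfsg.Agent.H865.EE.PP x)) → φ ≠ 0 → ∃ c : ZMod 5, ψ = c • φ)
    {ζ : k} (hζ : IsPrimitiveRoot ζ 5) {e : Module.Dual (ZMod 5) (Fin 4 → ZMod 5) → ↥(chevE8.group k)}
    (hrg : Set.range e = T5 k) (he : ∀ φ x, cX tp8 (e φ) x = ζ ^ (φ (_root_.Cfsg.Agent.H865.EE.PP x)).val)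
    (hf : Function.Injective f) (hr : ∀ x, f x ∈ GT k)
    (h : ∀ s ∈ VP, f s ∈ T5 k) (hreg : Reg (f '' VP)) :
    ∃ g ∈ GT k, (∀ s ∈ VL, g * f s * g⁻¹ ∈ T5 k) ∧ Reg ((fun s => g * f s * g⁻¹) '' VL) := by
  have hT : ∀ s ∈ VP, f s ∈ TT chevE8 k := fun s hs => (h s hs).1.1
  obtain ⟨g1, hg1⟩ := toral_VL
  obtain ⟨ω, hω, hω2⟩ := exists_omega hk hT hreg hg1
  -- `v ω v⁻¹ = w8⁻¹`
  obtain ⟨v, hv⟩ := conj_w8 (ω := ω⁻¹) fun x => by
    have h1 := hω2 (_root_.Cfsg.Agent.H865.EE.act ω⁻¹ (_root_.Cfsg.Agent.H865.EE.act ω⁻¹ x))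
    rw [act_act_inv, act_act_inv] at h1
    exact neg_eq_iff_eq_neg.1 h1.symm
  have hv' : v * ω * v⁻¹ = w8⁻¹ := by rw [← hv]; group
  obtain ⟨n, hn⟩ := exists_rp cs8 (nsysL tp8 cs8 hk 3) v
  obtain ⟨g, hgg⟩ : ∃ g, g = n * g1 := ⟨_, rfl⟩
  have hg : ∀ s ∈ VL, g * f s * g⁻¹ ∈ TT chevE8 k := fun s hs => by
    have h1 := rp_conj_TT hk hn (hg1 s hs)
    have e1 : g * f s * g⁻¹ = n * (g1 * f s * g1⁻¹) * n⁻¹ := by rw [hgg]; group
    rw [e1]; exact h1
  have hz : Rp cs8 (nsysL tp8 cs8 hk 3) w8⁻¹ (g * f zl * g⁻¹) := by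
    have h1 := (hn.mul hω).mul hn.inv
    rw [hv'] at h1
    have e1 : g * f zl * g⁻¹ = n * (g1 * f zl * g1⁻¹) * n⁻¹ := by rw [hgg]; group
    rw [e1]; exact h1
  obtain ⟨S, hS⟩ : ∃ S : A5 → ↥(chevE8.group k), ∀ p, S p = g * f (vl p.1 p.2) * g⁻¹ := ⟨_, fun _ => rfl⟩
  have hST : ∀ p, S p ∈ TT chevE8 k := fun p => by rw [hS]; exact hg _ ⟨_, _, rfl⟩
  have hSreg : ∀ a, Rt a → ∃ p, cX tp8 (S p) a ≠ 1 := fun a ha => by
    obtain ⟨p, hp⟩ := reg_VL hk hT hreg hg ha
    exact ⟨p, by rw [hS]; exact hp⟩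
  -- `S p ∈ T5`
  have hS5 : ∀ p, S p ∈ T5 k := fun p => by
    refine mem_T5_of hk (hST p) fun y => ?_
    have h1 := cX_rp3 hk hz (hST p) (_root_.Cfsg.Agent.H865.EE.act w8 y)
    have e1 : g * f zl * g⁻¹ * S p * (g * f zl * g⁻¹)⁻¹ = S p * S p := by
      have e := congrArg f (zl_vl p)
      rw [map_mul, map_mul, map_mul] at e
      rw [hS]
      calc g * f zl * g⁻¹ * (g * f (vl p.1 p.2) * g⁻¹) * (g * f zl * g⁻¹)⁻¹ =
          g * (f zl * f (vl p.1 p.2)) * (f zl)⁻¹ * g⁻¹ := by group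
        _ = _ := by rw [e]; group
    rw [act_inv_act, e1, cX_mul tp8 (hST p) (hST p), ← sq] at h1
    exact h1.symm
  have hSm : ∀ p q, S (p + q) = S p * S q := fun p q => by
    rw [hS, hS, hS, vl_add, map_mul]; group
  have hSi : Function.Injective S := fun p q hpq => by
    rw [hS, hS] at hpq
    exact vl_inj (hf (mul_left_cancel (mul_right_cancel hpq)))
  -- the cocycle
  obtain ⟨c, hc⟩ : ∃ c, c = sg k g * g⁻¹ := ⟨_, rfl⟩
  have hcS : ∀ p, c * S p = S p * c := fun p => by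
    have h1 : sg k (S p) = S p := (hS5 p).1.2
    have h2 : sg k (f (vl p.1 p.2)) = f (vl p.1 p.2) := hr _
    have h3 : sg k (S p) = c * S p * c⁻¹ := by
      rw [hS, map_mul, map_mul, map_inv, h2, hc]; group
    rw [h1] at h3
    exact (eq_mul_inv_iff_mul_eq.1 h3).symm
  obtain ⟨w, m, hm, -, hmc⟩ := exists_rp_conj hk (s := S) (t := S) hST hST hcS
  rw [hmc hSreg] at hm
  have hw : w ∈ CW := mem_CW_of_rp hk hr hz (by rw [← hc]; exact hm)
  have hw1 : w = 1 := by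
    refine eq_one_of_fixes five_elt fix_line hζ hrg he hS5 hSm hSi hSreg hw fun p x => ?_
    have h1 := cX_rp3 hk hm (hST p) x
    rwa [hcS, mul_inv_cancel_right] at h1
  rw [hw1] at hm
  obtain ⟨b, hb, hcb⟩ := lang_sg hk hm.mem_of_one
  have hgS : ∀ s ∈ VL, b⁻¹ * g * f s * (b⁻¹ * g)⁻¹ = g * f s * g⁻¹ := fun s hs => by
    have h1 := TT_comm (K := k) tp8 _ (inv_mem hb) _ (hg s hs)
    calc b⁻¹ * g * f s * (b⁻¹ * g)⁻¹ = b⁻¹ * (g * f s * g⁻¹) * b := by group
      _ = _ := by rw [h1]; group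
  refine ⟨b⁻¹ * g, ?_, fun s hs => ?_, fun a ha => ?_⟩
  · show sg k (b⁻¹ * g) = b⁻¹ * g
    have h1 : sg k g = sg k b * b⁻¹ * g := by rw [← hcb, hc]; group
    rw [map_mul, map_inv, h1]; group
  · rw [hgS s hs]
    obtain ⟨c, d, rfl⟩ := hs
    rw [← hS (c, d)]
    exact hS5 _
  · obtain ⟨p, hp⟩ := hSreg a ha
    refine ⟨S p, ⟨vl p.1 p.2, ⟨_, _, rfl⟩, ?_⟩, hp⟩
    show b⁻¹ * g * f (vl p.1 p.2) * (b⁻¹ * g)⁻¹ = S p
    rw [hgS _ ⟨_, _, rfl⟩, hS]

end Sg

end Cfsg.Agent.H241.L5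
end

-- part: H343/L5/Cyc
section
/-!
# An operator of order 20 on `ℤ⁸` (helper343, for S5923)

If `(T⁸ - T⁶ + T⁴ - T² + 1) x = 0` for some `x ≠ 0` then `T⁸ - T⁶ + T⁴ - T² + 1 = 0` (the polynomial is the cyclotomic
polynomial of degree 8, irreducible).
-/

set_option autoImplicit false

namespace Cfsg.Agent.H343.L5

open Polynomial

theorem cyc_four (R : Type*) [CommRing R] : cyclotomic 4 R = X ^ 2 + 1 := by
  have h := cyclotomic_expand_eq_cyclotomic Nat.prime_two (dvd_refl 2) R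
  rw [cyclotomic_two] at h
  norm_num only [_root_.map_add, _root_.Polynomial.expand_X, _root_.map_one] at h
  exact h.symm

theorem cyc_twenty : cyclotomic 20 ℚ = X ^ 8 - X ^ 6 + X ^ 4 - X ^ 2 + 1 := by
  have h := cyclotomic_expand_eq_cyclotomic_mul Nat.prime_five (by norm_num : ¬ 5 ∣ 4) ℚ
  rw [cyc_four, map_add, map_pow, expand_X, map_one] at h
  norm_num at h
  have h0 : (X ^ 2 + 1 : ℚ[X]) ≠ 0 := by
    rw [← cyc_four]
    exact cyclotomic_ne_zero 4 ℚ
  apply mul_right_cancel₀ h0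
  rw [← h]
  ring

theorem mat_cyc {M : Matrix (Fin 8) (Fin 8) ℤ} {x : Fin 8 → ℤ} (hx : x ≠ 0)
    (h : (M ^ 8 - M ^ 6 + M ^ 4 - M ^ 2 + 1).mulVec x = 0) : M ^ 8 - M ^ 6 + M ^ 4 - M ^ 2 + 1 = 0 := by
  set f := (Int.castRingHom ℚ).mapMatrix (m := Fin 8) with hf
  have hinj : Function.Injective f := by
    intro A B hAB
    ext i j
    have := congrFun (congrFun hAB i) j
    exact Int.cast_injective this
  set xq : Fin 8 → ℚ := fun i => (x i : ℚ) with hxq
  have hxq0 : xq ≠ 0 := by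
    intro h0
    apply hx
    funext i
    have := congrFun h0 i
    simpa [hxq] using this
  have hmap : ∀ A : Matrix (Fin 8) (Fin 8) ℤ, (f A).mulVec xq = fun i => ((A.mulVec x i : ℤ) : ℚ) := by
    intro A
    funext i
    simp only [hf, hxq, Matrix.mulVec, dotProduct, _root_.RingHom.mapMatrix_apply, _root_.Int.coe_castRingHom, _root_.Matrix.map_apply, _root_.Int.cast_sum, _root_.Int.cast_mul]
  have ha : aeval (f M) (cyclotomic 20 ℚ) = f (M ^ 8 - M ^ 6 + M ^ 4 - M ^ 2 + 1) := by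
    rw [cyc_twenty]
    simp only [_root_.map_add, _root_.Polynomial.aeval_sub, _root_.map_pow, _root_.Polynomial.aeval_X, _root_.map_one, _root_.map_sub]
  have hxa : (aeval (f M) (cyclotomic 20 ℚ)).mulVec xq = 0 := by
    rw [ha, hmap, h]
    funext i
    simp
  have hirr : Irreducible (cyclotomic 20 ℚ) := cyclotomic.irreducible_rat (by norm_num)
  have hdvd : cyclotomic 20 ℚ ∣ (f M).charpoly := by
    by_contra hcon
    obtain ⟨u, v, huv⟩ := (hirr.coprime_iff_not_dvd.2 hcon : IsCoprime (cyclotomic 20 ℚ) (f M).charpoly)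
    have h1 := congrArg (fun p => (aeval (f M) p).mulVec xq) huv
    simp only [map_add, map_mul, Matrix.aeval_self_charpoly, mul_zero, add_zero, map_one, Matrix.one_mulVec] at h1
    rw [← Matrix.mulVec_mulVec, hxa, Matrix.mulVec_zero] at h1
    exact hxq0 h1.symm
  have heq : (f M).charpoly = cyclotomic 20 ℚ := by
    apply Polynomial.eq_of_monic_of_dvd_of_natDegree_le (cyclotomic.monic 20 ℚ) (Matrix.charpoly_monic _) hdvd
    rw [Matrix.charpoly_natDegree_eq_dim, natDegree_cyclotomic]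
    decide
  apply hinj
  rw [← ha, ← heq, Matrix.aeval_self_charpoly, map_zero]

theorem end_cyc {T : Module.End ℤ (Fin 8 → ℤ)} {x : Fin 8 → ℤ} (hx : x ≠ 0)
    (h : (T ^ 8 - T ^ 6 + T ^ 4 - T ^ 2 + 1 : Module.End ℤ (Fin 8 → ℤ)) x = 0) : T ^ 8 - T ^ 6 + T ^ 4 - T ^ 2 + 1 = 0 := by
  set g := LinearMap.toMatrixAlgEquiv' (R := ℤ) (n := Fin 8) with hg
  have hgT : g (T ^ 8 - T ^ 6 + T ^ 4 - T ^ 2 + 1) = g T ^ 8 - g T ^ 6 + g T ^ 4 - g T ^ 2 + 1 := by
    simp only [map_add, map_sub, map_pow, map_one]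
  apply g.injective
  rw [map_zero, hgT]
  apply mat_cyc hx
  rw [← hgT]
  exact ((LinearMap.toMatrix'_mulVec _ x).trans h :)

end Cfsg.Agent.H343.L5
end

-- part: H343/L5/FiveElt
section
/-!
# S5923, pieces B1, B2, B3, B5 (helper343): elements of order 5 of `C_W(w8)`
-/

set_option autoImplicit false
set_option linter.unusedSectionVars false

namespace Cfsg.Agent.H343.L5

open CoxeterSystem Subgroup Cfsg Cfsg.Lie Cfsg.Lie.ChevalleyDatum
open Cfsg.Agent.ChevalleyStructure Cfsg.Agent.ChevalleyStructure.Elts Cfsg.Agent.ChevalleyStructure.CoxeterGeom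
  Cfsg.Agent.ChevalleyStructure.CoxeterGeomTypes Cfsg.Agent.ChevalleyStructure.NPerm
open Cfsg.Agent.Tits.Roots Cfsg.Agent.Tits.Core Cfsg.Agent.Nodes Cfsg.Agent.Nodes.SubComb Cfsg.Agent.Nodes.Reps
  Cfsg.Agent.Nodes.BNOf Cfsg.Agent.Nodes.RGDChev Cfsg.Agent.Nodes.Bruhat Cfsg.Agent.Nodes.Coroot
open Cfsg.Agent.KFacts.RgdField Cfsg.Agent.KFacts.RgdChevCoord Cfsg.Agent.BpExc.TorCent Cfsg.Agent.BpExc.TorChev
open Cfsg.Agent.GpExc.Field Cfsg.Agent.BpExc.Tow Cfsg.Agent.BpExc.TowChev Cfsg.Agent.BpExc.Fr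
  Cfsg.Agent.BpExc.LangFr Cfsg.Agent.BpExc.FamField Cfsg.Agent.BpExc.FamInst Cfsg.Agent.H129.TorusChar
  Cfsg.Agent.H795.LangT Cfsg.Agent.BpExc.FamExt Cfsg.Agent.BpExc.FamUntw Cfsg.Agent.H378.TorDual Cfsg.Agent.H378.TorChar
  Cfsg.Agent.H378.TorFin Cfsg.Agent.H378.RankOne Cfsg.Agent.H378.RootTor Cfsg.Agent.H865.EE Cfsg.Agent.H865.L5
open Cfsg.Agent.H111.EE (PP_act PP_act_smul PP_val)
open Cfsg.Agent.H136.EE (bL bf_eq)

attribute [local irreducible] w8

/-! ### the form on roots -/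

theorem bL_tab : ∀ i : Fin 8, ∀ l ∈ RL, -1 ≤ bL (toL (sr i)) l ∨ l = toL (-(sr i : Fin 8 → ℤ)) := by
  (delta Cfsg.Agent.H865.EE.toL; set_option synthInstance.maxSize 100000 in exact Cfsg.Agent.Lib.Refl.of (by decide +kernel))

theorem bf_ge {a b : Fin 8 → ℤ} (ha : Rt a) (hb : Rt b) : -1 ≤ bf a b ∨ b = -a := by
  obtain ⟨w, i, rfl⟩ := id ha
  have h1 : Rt (_root_.Cfsg.Agent.H865.EE.act w⁻¹ b) := hb.act _
  have h2 : _root_.Cfsg.Agent.H865.EE.act w (_root_.Cfsg.Agent.H865.EE.act w⁻¹ b) = b := by rw [← act_mul, mul_inv_cancel, act_one]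
  have h3 : bf (_root_.Cfsg.Agent.H865.EE.act w (sr i)) b = bf (sr i) (_root_.Cfsg.Agent.H865.EE.act w⁻¹ b) := by
    conv_lhs => rw [← h2]
    exact bf_act w _ _
  rcases bL_tab i _ ((rt_iff _).1 h1) with h | h
  · left
    show -1 ≤ bf (_root_.Cfsg.Agent.H865.EE.act w (sr i)) b
    rw [h3, bf_eq]
    exact h
  · right
    have h4 := toL_inj h
    rw [← h2, h4, map_neg]

/-! ### the sum over the powers -/

theorem sum_zero {u : W8} (hu : u ∈ CW) (h5 : u ^ 5 = 1) (h1 : u ≠ 1) :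
    (1 + _root_.Cfsg.Agent.H865.EE.act u + _root_.Cfsg.Agent.H865.EE.act u ^ 2 + _root_.Cfsg.Agent.H865.EE.act u ^ 3 + _root_.Cfsg.Agent.H865.EE.act u ^ 4 : Module.End ℤ (Fin 8 → ℤ)) = 0 := by
  obtain ⟨g, hg, hsum⟩ := Cfsg.Agent.BpExc.Fix.exists_root_sum_eq_zero (cs := cs8) (h := tp8.isCartan) h1
    (by norm_num : 0 < 5) h5
  set A : Module.End ℤ (Fin 8 → ℤ) := _root_.Cfsg.Agent.H865.EE.act u with hA
  set J : Module.End ℤ (Fin 8 → ℤ) := _root_.Cfsg.Agent.H865.EE.act w8 with hJ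
  have hN : (1 + A + A ^ 2 + A ^ 3 + A ^ 4 : Module.End ℤ (Fin 8 → ℤ)) g = 0 := by
    rw [← hsum]
    simp only [Finset.sum_range_succ, Finset.sum_range_zero, zero_add, LinearMap.add_apply]
    have hp : ∀ i : ℕ, rep cs8 tp8.isCartan (u ^ i) = A ^ i := fun i => by rw [map_pow]
    rw [hp, hp, hp, hp, hp, pow_zero, pow_one]
  have hA5 : A ^ 5 = 1 := by
    rw [hA]
    show rep _ _ u ^ 5 = 1
    rw [← map_pow, h5, map_one]
  have hJ2 : J ^ 2 = -1 := by
    refine LinearMap.ext fun x => ?_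
    rw [pow_two]
    exact w8_sq x
  have hAJ : Commute J A := LinearMap.ext fun x => (mem_CW.1 hu x).symm
  have e2 : (J * A) ^ 2 = -(A ^ 2) := by rw [hAJ.mul_pow, hJ2, neg_one_mul]
  have e4 : (J * A) ^ 4 = A ^ 4 := by
    rw [show (4 : ℕ) = 2 * 2 by norm_num, pow_mul, e2, neg_sq, ← pow_mul]
  have e6 : (J * A) ^ 6 = -A := by
    rw [show (6 : ℕ) = 4 + 2 by norm_num, pow_add, e4, e2, mul_neg, ← pow_add, show 4 + 2 = 5 + 1 by norm_num,
      pow_add, hA5, one_mul, pow_one]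
  have e8 : (J * A) ^ 8 = A ^ 3 := by
    calc (J * A) ^ 8 = (J * A) ^ 4 * (J * A) ^ 4 := pow_add (J * A) 4 4
      _ = A ^ 5 * A ^ 3 := by rw [e4, ← pow_add, ← pow_add]
      _ = A ^ 3 := by rw [hA5, one_mul]
  have e : (J * A) ^ 8 - (J * A) ^ 6 + (J * A) ^ 4 - (J * A) ^ 2 + 1 = 1 + A + A ^ 2 + A ^ 3 + A ^ 4 := by
    rw [e2, e4, e6, e8]
    abel
  have hg0 : g ≠ 0 := by
    rintro rfl
    have h2 := bf_self hg
    have h3 : bf (0 : Fin 8 → ℤ) 0 = 0 := by
      have := bf_smul_left 0 (0 : Fin 8 → ℤ) 0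
      rwa [zero_smul, zero_mul] at this
    rw [h3] at h2
    norm_num at h2
  rw [← e]
  apply end_cyc hg0
  rw [e]
  exact hN

/-- the powers of `u` on a vector -/
theorem sum_zero' {u : W8} (hu : u ∈ CW) (h5 : u ^ 5 = 1) (h1 : u ≠ 1) (x : Fin 8 → ℤ) :
    x + _root_.Cfsg.Agent.H865.EE.act u x + _root_.Cfsg.Agent.H865.EE.act u (_root_.Cfsg.Agent.H865.EE.act u x) + _root_.Cfsg.Agent.H865.EE.act u (_root_.Cfsg.Agent.H865.EE.act u (_root_.Cfsg.Agent.H865.EE.act u x)) + _root_.Cfsg.Agent.H865.EE.act u (_root_.Cfsg.Agent.H865.EE.act u (_root_.Cfsg.Agent.H865.EE.act u (_root_.Cfsg.Agent.H865.EE.act u x))) = 0 := by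
  have h := LinearMap.congr_fun (sum_zero hu h5 h1) x
  exact h

/-! ### B1 -/

theorem sq_ne {u : W8} (hu : u ∈ CW) (h5 : u ^ 5 = 1) (h1 : u ≠ 1) {a : Fin 8 → ℤ} (ha : Rt a) :
    _root_.Cfsg.Agent.H865.EE.PP (_root_.Cfsg.Agent.H865.EE.act u (_root_.Cfsg.Agent.H865.EE.act u a)) - 2 • _root_.Cfsg.Agent.H865.EE.PP (_root_.Cfsg.Agent.H865.EE.act u a) + _root_.Cfsg.Agent.H865.EE.PP a ≠ 0 := by
  intro h0
  obtain ⟨x1, hx1⟩ : ∃ x, x = _root_.Cfsg.Agent.H865.EE.act u a := ⟨_, rfl⟩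
  obtain ⟨x2, hx2⟩ : ∃ x, x = _root_.Cfsg.Agent.H865.EE.act u x1 := ⟨_, rfl⟩
  obtain ⟨x3, hx3⟩ : ∃ x, x = _root_.Cfsg.Agent.H865.EE.act u x2 := ⟨_, rfl⟩
  obtain ⟨x4, hx4⟩ : ∃ x, x = _root_.Cfsg.Agent.H865.EE.act u x3 := ⟨_, rfl⟩
  have hx5 : _root_.Cfsg.Agent.H865.EE.act u x4 = a := by
    rw [hx4, hx3, hx2, hx1, ← act_mul, ← act_mul, ← act_mul, ← act_mul,
      show u * u * u * u * u = u ^ 5 by simp only [pow_succ, pow_zero, one_mul], h5, act_one]
  have hs : a + x1 + x2 + x3 + x4 = 0 := by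
    rw [hx4, hx3, hx2, hx1]
    exact sum_zero' hu h5 h1 a
  have r1 : Rt x1 := hx1 ▸ rt_act ha u
  have r2 : Rt x2 := hx2 ▸ rt_act r1 u
  have r3 : Rt x3 := hx3 ▸ rt_act r2 u
  have r4 : Rt x4 := hx4 ▸ rt_act r3 u
  -- `PP` on the powers
  have hadd : ∀ {x y z : Fin 8 → ℤ}, _root_.Cfsg.Agent.H865.EE.PP x = _root_.Cfsg.Agent.H865.EE.PP y + _root_.Cfsg.Agent.H865.EE.PP z → _root_.Cfsg.Agent.H865.EE.PP (_root_.Cfsg.Agent.H865.EE.act u x) = _root_.Cfsg.Agent.H865.EE.PP (_root_.Cfsg.Agent.H865.EE.act u y) + _root_.Cfsg.Agent.H865.EE.PP (_root_.Cfsg.Agent.H865.EE.act u z) := by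
    intro x y z h
    rw [← map_add] at h ⊢
    rw [← map_add]
    exact PP_act hu h
  have p2 : _root_.Cfsg.Agent.H865.EE.PP x2 = 2 • _root_.Cfsg.Agent.H865.EE.PP x1 - _root_.Cfsg.Agent.H865.EE.PP a := by
    rw [← hx1, ← hx2] at h0
    rw [← sub_eq_zero, ← h0]
    abel
  have p3 : _root_.Cfsg.Agent.H865.EE.PP x3 = 2 • _root_.Cfsg.Agent.H865.EE.PP x2 - _root_.Cfsg.Agent.H865.EE.PP x1 := by
    have e1 : _root_.Cfsg.Agent.H865.EE.PP (x2 + a) = _root_.Cfsg.Agent.H865.EE.PP ((2 : ℕ) • x1) := by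
      rw [map_add, map_nsmul, p2]
      abel
    have e2 := PP_act hu e1
    rw [map_add, map_nsmul, ← hx3, ← hx1, ← hx2, map_add, map_nsmul] at e2
    rw [← e2]
    abel
  -- inner products
  obtain ⟨α, hα⟩ : ∃ t, t = bf a x1 := ⟨_, rfl⟩
  obtain ⟨β, hβ⟩ : ∃ t, t = bf a x2 := ⟨_, rfl⟩
  have b01 : bf a x1 = α := hα.symm
  have b02 : bf a x2 = β := hβ.symm
  have b12 : bf x1 x2 = α := by rw [hα, ← bf_act u a x1, ← hx1, ← hx2]
  have b13 : bf x1 x3 = β := by rw [hβ, ← bf_act u a x2, ← hx1, ← hx3]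
  have b23 : bf x2 x3 = α := by rw [← b12, ← bf_act u x1 x2, ← hx2, ← hx3]
  have b24 : bf x2 x4 = β := by rw [← b13, ← bf_act u x1 x3, ← hx2, ← hx4]
  have b34 : bf x3 x4 = α := by rw [← b23, ← bf_act u x2 x3, ← hx3, ← hx4]
  have b30 : bf x3 a = β := by rw [← b24, ← bf_act u x2 x4, ← hx3, hx5]
  have b40 : bf x4 a = α := by rw [← b34, ← bf_act u x3 x4, ← hx4, hx5]
  have b41 : bf x4 x1 = β := by rw [← b30, ← bf_act u x3 a, ← hx4, ← hx1]
  have b11 : bf x1 x1 = 2 := bf_self r1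
  have b33 : bf x3 x3 = 2 := bf_self r3
  have hab : α + β = -1 := by
    have e1 : bf a (a + x1 + x2 + x3 + x4) = 0 := by
      rw [hs]
      have := bf_smul_right 0 a a
      rwa [zero_smul, zero_mul] at this
    rw [bf_add_right, bf_add_right, bf_add_right, bf_add_right, bf_self ha, b01, b02, bf_comm a x3, b30,
      bf_comm a x4, b40] at e1
    (clear * - e1; omega)
  have hneg : a ≠ -a := by
    intro h
    have e1 := bf_neg_right a a
    rw [← h, bf_self ha] at e1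
    omega
  have hα1 : -1 ≤ α := by
    rcases bf_ge ha r1 with h | h
    · rw [hα]; exact h
    · exfalso
      apply hneg
      have e1 : x1 = -a := h
      have e2 : x2 = a := by rw [hx2, e1, map_neg, ← hx1, e1, neg_neg]
      have e3 : x3 = -a := by rw [hx3, e2, ← hx1, e1]
      have e4 : x4 = a := by rw [hx4, e3, map_neg, ← hx1, e1, neg_neg]
      have e5 := hx5
      rw [e4, ← hx1, e1] at e5
      exact e5.symm
  have hβ1 : -1 ≤ β := by
    rcases bf_ge ha r2 with h | h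
    · rw [hβ]; exact h
    · exfalso
      apply hneg
      have e2 : x2 = -a := h
      have e3 : x3 = -x1 := by rw [hx3, e2, map_neg, ← hx1]
      have e4 : x4 = a := by rw [hx4, e3, map_neg, ← hx2, e2, neg_neg]
      have e5 : x1 = a := by
        have e6 := hx5
        rwa [e4, ← hx1] at e6
      have e7 : x2 = a := by rw [hx2, e5, ← hx1, e5]
      rw [← e2, e7]
  -- the two cases
  have hw : ∀ {x : Fin 8 → ℤ}, _root_.Cfsg.Agent.H865.EE.act u (_root_.Cfsg.Agent.H865.EE.act w8 x) = _root_.Cfsg.Agent.H865.EE.act w8 (_root_.Cfsg.Agent.H865.EE.act u x) := fun {x} => mem_CW.1 hu x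
  have hcase : α = -1 ∨ β = -1 := by (clear * - hab hα1 hβ1; omega)
  rcases hcase with hα2 | hβ2
  · have e1 : Rt (x1 + a) := by
      have h := rt_act r1 (_root_.Cfsg.Agent.H865.EE.rf a)
      rwa [act_rf ha, bf_comm, b01, hα2, neg_one_smul, sub_neg_eq_add] at h
    have e2 : _root_.Cfsg.Agent.H865.EE.act w8 x3 = x1 + a := by
      apply PP_inj (rt_act r3 w8) e1
      rw [PP_w8, p3, p2, map_add]
      have h5' : (5 : ℕ) • (_root_.Cfsg.Agent.H865.EE.PP x1 - _root_.Cfsg.Agent.H865.EE.PP a) = 0 := by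
        funext i
        rw [Pi.smul_apply, nsmul_eq_mul, show ((5 : ℕ) : ZMod 5) = 0 from rfl, zero_mul, Pi.zero_apply]
      have e3 : (2 : ℕ) • ((2 : ℕ) • ((2 : ℕ) • _root_.Cfsg.Agent.H865.EE.PP x1 - _root_.Cfsg.Agent.H865.EE.PP a) - _root_.Cfsg.Agent.H865.EE.PP x1) = (5 : ℕ) • (_root_.Cfsg.Agent.H865.EE.PP x1 - _root_.Cfsg.Agent.H865.EE.PP a) + (_root_.Cfsg.Agent.H865.EE.PP x1 + _root_.Cfsg.Agent.H865.EE.PP a) := by
        module
      rw [e3, h5', zero_add]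
    have e4 : _root_.Cfsg.Agent.H865.EE.act w8 x4 = x2 + x1 := by
      have h := congrArg (fun x => _root_.Cfsg.Agent.H865.EE.act u x) e2
      simp only [hw, map_add] at h
      rwa [← hx4, ← hx2, ← hx1] at h
    have e5 : _root_.Cfsg.Agent.H865.EE.act w8 a = x3 + x2 := by
      have h := congrArg (fun x => _root_.Cfsg.Agent.H865.EE.act u x) e4
      simp only [hw, map_add] at h
      rwa [hx5, ← hx3, ← hx2] at h
    have e6 : _root_.Cfsg.Agent.H865.EE.act w8 x1 = x4 + x3 := by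
      have h := congrArg (fun x => _root_.Cfsg.Agent.H865.EE.act u x) e5
      simp only [hw, map_add] at h
      rwa [← hx1, ← hx4, ← hx3] at h
    have e7 := congrArg (fun x => _root_.Cfsg.Agent.H865.EE.act w8 x) e2
    simp only [map_add, w8_sq, e6, e5] at e7
    have e8 := congrArg (fun x => bf x x3) e7
    simp only [bf_add_left, bf_neg_left] at e8
    rw [b33, bf_comm x4, b34, b23] at e8
    (clear * - hα2 e8; omega)
  · have e1 : Rt (x2 + a) := by
      have h := rt_act r2 (_root_.Cfsg.Agent.H865.EE.rf a)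
      rwa [act_rf ha, bf_comm, b02, hβ2, neg_one_smul, sub_neg_eq_add] at h
    have e2 : _root_.Cfsg.Agent.H865.EE.act w8 x1 = x2 + a := by
      apply PP_inj (rt_act r1 w8) e1
      rw [PP_w8, map_add, p2]
      abel
    have e3 : _root_.Cfsg.Agent.H865.EE.act w8 x2 = x3 + x1 := by
      have h := congrArg (fun x => _root_.Cfsg.Agent.H865.EE.act u x) e2
      simp only [hw, map_add] at h
      rwa [← hx2, ← hx3, ← hx1] at h
    have e4 : _root_.Cfsg.Agent.H865.EE.act w8 x3 = x4 + x2 := by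
      have h := congrArg (fun x => _root_.Cfsg.Agent.H865.EE.act u x) e3
      simp only [hw, map_add] at h
      rwa [← hx3, ← hx4, ← hx2] at h
    have e5 : _root_.Cfsg.Agent.H865.EE.act w8 x4 = a + x3 := by
      have h := congrArg (fun x => _root_.Cfsg.Agent.H865.EE.act u x) e4
      simp only [hw, map_add] at h
      rwa [← hx4, hx5, ← hx3] at h
    have e6 : _root_.Cfsg.Agent.H865.EE.act w8 a = x1 + x4 := by
      have h := congrArg (fun x => _root_.Cfsg.Agent.H865.EE.act u x) e5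
      simp only [hw, map_add] at h
      rwa [hx5, ← hx1, ← hx4] at h
    have e7 := congrArg (fun x => _root_.Cfsg.Agent.H865.EE.act w8 x) e2
    simp only [map_add, w8_sq, e3, e6] at e7
    have e8 := congrArg (fun x => bf x x1) e7
    simp only [bf_add_left, bf_neg_left] at e8
    rw [b11, bf_comm x3, b13, b41] at e8
    omega

/-! ### B2 -/

theorem toMatrix_act (v : W8) (i j : Fin 8) : LinearMap.toMatrix' (_root_.Cfsg.Agent.H865.EE.act v) i j = _root_.Cfsg.Agent.H865.EE.act v (sr j) i := by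
  rw [LinearMap.toMatrix'_apply]
  congr 2

theorem fix_zero {u : W8} (hu : u ∈ CW) (h5 : u ^ 5 = 1) (h1 : u ≠ 1) {K : Type} [Field K] [CharP K 3]
    (c : Fin 8 → K) (h : ∀ i, ∑ j, ((_root_.Cfsg.Agent.H865.EE.act u (sr j) i : ℤ) : K) * c j = c i) : c = 0 := by
  set F : Module.End ℤ (Fin 8 → ℤ) →+* Matrix (Fin 8) (Fin 8) K :=
    ((Int.castRingHom K).mapMatrix (m := Fin 8)).comp
      (LinearMap.toMatrixAlgEquiv' (R := ℤ) (n := Fin 8)).toRingEquiv.toRingHom with hF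
  have hFc : (F (_root_.Cfsg.Agent.H865.EE.act u)).mulVec c = c := by
    funext i
    rw [← h i]
    simp only [Matrix.mulVec, dotProduct]
    refine Finset.sum_congr rfl fun j _ => ?_
    rw [← toMatrix_act]
    rfl
  have hpow : ∀ k : ℕ, (F (_root_.Cfsg.Agent.H865.EE.act u ^ k)).mulVec c = c := by
    intro k
    induction k with
    | zero => rw [pow_zero, map_one, Matrix.one_mulVec]
    | succ k ih => rw [pow_succ, map_mul, ← Matrix.mulVec_mulVec, hFc, ih]
  have h2 := congrArg (fun T : Module.End ℤ (Fin 8 → ℤ) => (F T).mulVec c) (sum_zero hu h5 h1)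
  simp only [map_add, map_zero, Matrix.add_mulVec, Matrix.zero_mulVec, map_one, Matrix.one_mulVec, hFc, hpow] at h2
  funext i
  have h3 := congrFun h2 i
  simp only [Pi.add_apply, Pi.zero_apply] at h3 ⊢
  have h4 : (3 : K) = 0 := by exact_mod_cast CharP.cast_eq_zero K 3
  have h5' : (5 : K) * c i = 0 := by linear_combination h3
  rcases mul_eq_zero.1 h5' with h6 | h6
  · exfalso
    apply one_ne_zero (α := K)
    linear_combination 2 * h4 - h6
  · exact h6

/-! ### the action on `F₅⁴` -/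

/-- a section of `PP` -/
noncomputable def sec (c : Fin 4 → ZMod 5) : Fin 8 → ℤ := (PP_surj c).choose

theorem PP_sec (c : Fin 4 → ZMod 5) : _root_.Cfsg.Agent.H865.EE.PP (sec c) = c := (PP_surj c).choose_spec

/-- the action of `u` on `F₅⁴` -/
noncomputable def Ab {u : W8} (hu : u ∈ CW) : Module.End (ZMod 5) (Fin 4 → ZMod 5) where
  toFun c := _root_.Cfsg.Agent.H865.EE.PP (_root_.Cfsg.Agent.H865.EE.act u (sec c))
  map_add' c d := by
    rw [← map_add, ← map_add]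
    exact PP_act hu (by rw [PP_sec, map_add, PP_sec, PP_sec])
  map_smul' r c := by
    show _root_.Cfsg.Agent.H865.EE.PP (_root_.Cfsg.Agent.H865.EE.act u (sec (r • c))) = r • _root_.Cfsg.Agent.H865.EE.PP (_root_.Cfsg.Agent.H865.EE.act u (sec c))
    exact PP_act_smul hu (by rw [PP_sec, PP_sec])

theorem Ab_PP {u : W8} (hu : u ∈ CW) (x : Fin 8 → ℤ) : Ab hu (_root_.Cfsg.Agent.H865.EE.PP x) = _root_.Cfsg.Agent.H865.EE.PP (_root_.Cfsg.Agent.H865.EE.act u x) := PP_act hu (PP_sec _)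

theorem Ab_pow {u : W8} (hu : u ∈ CW) (k : ℕ) (x : Fin 8 → ℤ) : (Ab hu ^ k) (_root_.Cfsg.Agent.H865.EE.PP x) = _root_.Cfsg.Agent.H865.EE.PP (_root_.Cfsg.Agent.H865.EE.act (u ^ k) x) := by
  induction k generalizing x with
  | zero => rw [pow_zero, pow_zero, act_one, Module.End.one_apply]
  | succ k ih => rw [pow_succ, Module.End.mul_apply, Ab_PP, ih, pow_succ, act_mul]

theorem Ab_pow_one {u : W8} (hu : u ∈ CW) {k : ℕ} (h : u ^ k = 1) : Ab hu ^ k = 1 := by
  refine LinearMap.ext fun c => ?_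
  rw [← PP_sec c, Ab_pow, h, act_one, Module.End.one_apply]

theorem pow_one_of_Ab {u : W8} (hu : u ∈ CW) {k : ℕ} (h : Ab hu ^ k = 1) : u ^ k = 1 := by
  have h1 : ∀ a, Rt a → _root_.Cfsg.Agent.H865.EE.act (u ^ k) a = a := by
    intro a ha
    apply PP_inj (rt_act ha _) ha
    rw [← Ab_pow hu, h, Module.End.one_apply]
  refine act_ext fun x => ?_
  rw [act_one]
  have h2 : _root_.Cfsg.Agent.H865.EE.act (u ^ k) = LinearMap.id := by
    refine LinearMap.pi_ext' fun j => LinearMap.ext_ring ?_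
    exact h1 (sr j) ⟨1, j, act_one _⟩
  rw [h2, LinearMap.id_apply]

open Polynomial in
theorem nil_five {u : W8} (hu : u ∈ CW) {n : ℕ} (h : u ^ 5 ^ n = 1) : (Ab hu - 1) ^ 4 = 0 := by
  have h1 : (Ab hu - 1) ^ 5 ^ n = 0 := by
    have e1 : (X - 1 : (ZMod 5)[X]) ^ 5 ^ n = X ^ 5 ^ n - 1 ^ 5 ^ n := sub_pow_char_pow _ _ _
    have e2 := congrArg (aeval (Ab hu)) e1
    simp only [map_pow, map_sub, aeval_X, map_one, one_pow] at e2
    rw [e2, Ab_pow_one hu h, sub_self]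
  have h2 := Module.End.ker_pow_le_ker_pow_finrank (Ab hu - 1) (5 ^ n)
  rw [h1, LinearMap.ker_zero, top_le_iff, Module.finrank_fin_fun, LinearMap.ker_eq_top] at h2
  exact h2

open Polynomial in
theorem five_elt {u : W8} (hu : u ∈ CW) {n : ℕ} (h : u ^ 5 ^ n = 1) : u ^ 5 = 1 := by
  apply pow_one_of_Ab hu
  have h1 : (Ab hu - 1) ^ 5 = 0 := by rw [pow_succ, nil_five hu h, zero_mul]
  have e1 : (X - 1 : (ZMod 5)[X]) ^ 5 ^ 1 = X ^ 5 ^ 1 - 1 ^ 5 ^ 1 := sub_pow_char_pow _ _ _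
  rw [pow_one] at e1
  have e2 := congrArg (aeval (Ab hu)) e1
  simp only [map_pow, map_sub, aeval_X, map_one, one_pow] at e2
  rw [h1] at e2
  exact sub_eq_zero.1 e2.symm

/-! ### B3 -/

/-- partial sums of a chain of five simple roots -/
def bs : Fin 6 → Fin 8 → ℤ := ![![0, 0, 0, 0, 0, 0, 0, 0], ![1, 0, 0, 0, 0, 0, 0, 0], ![1, 0, 1, 0, 0, 0, 0, 0],
  ![1, 0, 1, 1, 0, 0, 0, 0], ![1, 0, 1, 1, 1, 0, 0, 0], ![1, 0, 1, 1, 1, 1, 0, 0]]

theorem bs_tab : ∀ i j : Fin 6, i ≠ j → toL (bs i - bs j) ∈ RL := by decide +kernel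

theorem bs_rt {i j : Fin 6} (h : i ≠ j) : Rt (bs i - bs j) := (rt_iff _).2 (bs_tab i j h)

theorem fix_line {u : W8} (hu : u ∈ CW) (h5 : u ^ 5 = 1) (h1 : u ≠ 1) {φ ψ : Module.Dual (ZMod 5) (Fin 4 → ZMod 5)}
    (hφ : ∀ x, φ (_root_.Cfsg.Agent.H865.EE.PP (_root_.Cfsg.Agent.H865.EE.act u x)) = φ (_root_.Cfsg.Agent.H865.EE.PP x)) (hψ : ∀ x, ψ (_root_.Cfsg.Agent.H865.EE.PP (_root_.Cfsg.Agent.H865.EE.act u x)) = ψ (_root_.Cfsg.Agent.H865.EE.PP x)) (h0 : φ ≠ 0) :
    ∃ c : ZMod 5, ψ = c • φ := by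
  by_contra hcon
  push Not at hcon
  set N : Module.End (ZMod 5) (Fin 4 → ZMod 5) := Ab hu - 1 with hN
  have hNPP : ∀ x, N (_root_.Cfsg.Agent.H865.EE.PP x) = _root_.Cfsg.Agent.H865.EE.PP (_root_.Cfsg.Agent.H865.EE.act u x) - _root_.Cfsg.Agent.H865.EE.PP x := fun x => by
    rw [hN, LinearMap.sub_apply, Ab_PP, Module.End.one_apply]
  have hN4 : N ^ 4 = 0 := nil_five (n := 1) hu (by rwa [pow_one])
  -- the range of `N` has dimension at most 2
  have hφN : φ ∈ (LinearMap.range N).dualAnnihilator := by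
    rw [Submodule.mem_dualAnnihilator]
    rintro _ ⟨c, rfl⟩
    rw [← PP_sec c, hNPP, map_sub, hφ, sub_self]
  have hψN : ψ ∈ (LinearMap.range N).dualAnnihilator := by
    rw [Submodule.mem_dualAnnihilator]
    rintro _ ⟨c, rfl⟩
    rw [← PP_sec c, hNPP, map_sub, hψ, sub_self]
  have hli : LinearIndependent (ZMod 5) ![φ, ψ] := by
    rw [LinearIndependent.pair_iff' h0]
    intro c hc
    exact hcon c hc.symm
  have hd1 : 2 ≤ Module.finrank (ZMod 5) (LinearMap.range N).dualAnnihilator := by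
    have h2 := finrank_span_eq_card hli
    rw [Fintype.card_fin] at h2
    refine h2.symm.le.trans (Submodule.finrank_mono ?_)
    rw [Submodule.span_le]
    rintro _ ⟨i, rfl⟩
    fin_cases i
    · exact hφN
    · exact hψN
  have hd2 := Subspace.finrank_add_finrank_dualAnnihilator_eq (LinearMap.range N)
  rw [Module.finrank_fin_fun] at hd2
  -- the range of `N²` has dimension at most 1
  have hle : LinearMap.range (N ^ 2) ≤ LinearMap.range N := by
    rw [pow_two]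
    exact LinearMap.range_comp_le_range _ _
  have hd3 : Module.finrank (ZMod 5) (LinearMap.range (N ^ 2)) ≤ 1 := by
    by_contra hgt
    have h2 : LinearMap.range (N ^ 2) = LinearMap.range N :=
      Submodule.eq_of_le_of_finrank_le hle (by omega)
    have h3 : LinearMap.range (N ^ 4) = LinearMap.range N := by
      have e1 : LinearMap.range (N ^ 3) = LinearMap.range N := by
        rw [show (3 : ℕ) = 1 + 2 by norm_num, pow_add, pow_one, Module.End.mul_eq_comp, LinearMap.range_comp, h2,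
          ← LinearMap.range_comp, ← Module.End.mul_eq_comp, ← pow_two, h2]
      rw [show N ^ 4 = N * N ^ 3 from pow_succ' N 3, Module.End.mul_eq_comp, LinearMap.range_comp, e1,
        ← LinearMap.range_comp, ← Module.End.mul_eq_comp, ← pow_two, h2]
    rw [hN4, LinearMap.range_zero] at h3
    rw [h2, ← h3, finrank_bot] at hgt
    omega
  -- pigeonhole
  have hcard : Nat.card (LinearMap.range (N ^ 2)) ≤ 5 := by
    rw [Module.natCard_eq_pow_finrank (K := ZMod 5), Nat.card_zmod]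
    calc 5 ^ Module.finrank (ZMod 5) (LinearMap.range (N ^ 2)) ≤ 5 ^ 1 := Nat.pow_le_pow_right (by norm_num) hd3
      _ = 5 := by norm_num
  have hfin : Finite (LinearMap.range (N ^ 2)) := inferInstance
  have : Fintype (LinearMap.range (N ^ 2)) := Fintype.ofFinite _
  obtain ⟨i, j, hij, heq⟩ := Fintype.exists_ne_map_eq_of_card_lt
    (fun i : Fin 6 => (⟨(N ^ 2) (_root_.Cfsg.Agent.H865.EE.PP (bs i)), LinearMap.mem_range_self _ _⟩ : LinearMap.range (N ^ 2))) (by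
      rw [Fintype.card_fin, ← Nat.card_eq_fintype_card]
      omega)
  have h2 : (N ^ 2) (_root_.Cfsg.Agent.H865.EE.PP (bs i)) = (N ^ 2) (_root_.Cfsg.Agent.H865.EE.PP (bs j)) := congrArg Subtype.val heq
  apply sq_ne hu h5 h1 (bs_rt hij)
  have h3 : (N ^ 2) (_root_.Cfsg.Agent.H865.EE.PP (bs i - bs j)) = 0 := by rw [map_sub, map_sub, h2, sub_self]
  rw [pow_two, Module.End.mul_apply, hNPP, map_sub, hNPP, hNPP] at h3
  rw [← h3]
  abel

end Cfsg.Agent.H343.L5
end

-- part: H602/L5/U1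
section
/-!
# S5924, U1ab (helper602): the torus `AT k` of order `10⁴`

* `AT_pow` : exponent 10; `AT_w8 : cX t (w8 x) = cX t x ^ 7`; `T5_w8`;
* `cw_of_rp` : an element of `GT k` normalising the torus represents an element of `CW`;
* `exists_rp_of_norm` : an element normalising `f VP` represents an element of `CW`;
* `z0_AT_of` : `f z0` acts on `AT k` as `t ↦ t ^ 7`;
* `card_AT2_of` : 16 elements with `t² = 1`;
* `uu_AT2` : `f (us 0 0 1)` has no fixed point on them.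
-/

set_option autoImplicit false
set_option linter.unusedSectionVars false

namespace Cfsg.Agent.H602.L5

open CoxeterSystem Subgroup Cfsg Cfsg.Lie Cfsg.Lie.ChevalleyDatum
open Cfsg.Agent.ChevalleyStructure Cfsg.Agent.ChevalleyStructure.Elts Cfsg.Agent.ChevalleyStructure.CoxeterGeom
  Cfsg.Agent.ChevalleyStructure.CoxeterGeomTypes Cfsg.Agent.ChevalleyStructure.NPerm
open Cfsg.Agent.Tits.Roots Cfsg.Agent.Tits.Core Cfsg.Agent.Nodes Cfsg.Agent.Nodes.SubComb Cfsg.Agent.Nodes.Reps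
  Cfsg.Agent.Nodes.BNOf Cfsg.Agent.Nodes.RGDChev Cfsg.Agent.Nodes.Bruhat Cfsg.Agent.Nodes.Coroot
open Cfsg.Agent.KFacts.RgdField Cfsg.Agent.KFacts.RgdChevCoord Cfsg.Agent.BpExc.TorCent Cfsg.Agent.BpExc.TorChev
open Cfsg.Agent.GpExc.Field Cfsg.Agent.BpExc.Tow Cfsg.Agent.BpExc.TowChev Cfsg.Agent.BpExc.Fr
  Cfsg.Agent.BpExc.LangFr Cfsg.Agent.BpExc.FamField Cfsg.Agent.BpExc.FamInst Cfsg.Agent.H129.TorusChar
  Cfsg.Agent.H795.LangT Cfsg.Agent.BpExc.FamExt Cfsg.Agent.BpExc.FamUntw Cfsg.Agent.H378.TorDual Cfsg.Agent.H378.TorChar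
  Cfsg.Agent.H378.TorFin Cfsg.Agent.H378.RankOne Cfsg.Agent.H378.RootTor Cfsg.Agent.H865.EE Cfsg.Agent.H865.L5
  Cfsg.Agent.H241.L5

attribute [local irreducible] w8

variable {k : Type} [Field k] [CharP k 3] [IsAlgClosed k] [PerfectRing k 3] (hk : LocFin k)

/-! ### The characters of `AT k` -/

include hk in
/-- `t (w8 x)³ = t x` -/
theorem AT_w8_three {t : ↥(chevE8.group k)} (ht : t ∈ AT k) (x : Fin 8 → ℤ) :
    cX tp8 t (_root_.Cfsg.Agent.H865.EE.act w8 x) ^ 3 = cX tp8 t x := by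
  have h1 := cX_sg hk ht.1 x
  have h2 : sg k t = t := ht.2
  rw [h2] at h1
  exact h1.symm

include hk in
theorem cX_AT_pow {t : ↥(chevE8.group k)} (ht : t ∈ AT k) (x : Fin 8 → ℤ) : cX tp8 t x ^ 10 = 1 := by
  have h1 := AT_w8_three hk ht (_root_.Cfsg.Agent.H865.EE.act w8 x)
  rw [w8_sq, (isMC_cX tp8 ht.1).neg] at h1
  have h2 := AT_w8_three hk ht x
  have h0 := (isMC_cX tp8 ht.1).ne_zero x
  -- `t x = (t (w8 x))³ = (t x)^{-9}`
  rw [← h1, inv_pow, inv_pow] at h2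
  calc cX tp8 t x ^ 10 = cX tp8 t x * (cX tp8 t x ^ 3) ^ 3 := by ring
    _ = ((cX tp8 t x ^ 3) ^ 3)⁻¹ * (cX tp8 t x ^ 3) ^ 3 := by rw [h2]
    _ = 1 := inv_mul_cancel₀ (pow_ne_zero _ (pow_ne_zero _ h0))

include hk in
/-- `AT k` has exponent 10 -/
theorem AT_pow {t : ↥(chevE8.group k)} (ht : t ∈ AT k) : t ^ 10 = 1 := by
  refine cX_inj tp8 (pow_mem ht.1 10) (one_mem _) fun i => ?_
  rw [cX_pow tp8 ht.1, cX_AT_pow hk ht, cX_one]

include hk in
theorem AT_w8 {t : ↥(chevE8.group k)} (ht : t ∈ AT k) (x : Fin 8 → ℤ) :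
    cX tp8 t (_root_.Cfsg.Agent.H865.EE.act w8 x) = cX tp8 t x ^ 7 := by
  rw [← AT_w8_three hk ht x, ← pow_mul, show 3 * 7 = 10 * 2 + 1 by norm_num, pow_succ, pow_mul, cX_AT_pow hk ht,
    one_pow, one_mul]

include hk in
theorem cX_T5_pow {t : ↥(chevE8.group k)} (ht : t ∈ T5 k) (x : Fin 8 → ℤ) : cX tp8 t x ^ 5 = 1 := by
  rw [← cX_pow tp8 ht.1.1, ht.2, cX_one]

include hk in
theorem T5_w8 {t : ↥(chevE8.group k)} (ht : t ∈ T5 k) (x : Fin 8 → ℤ) :
    cX tp8 t (_root_.Cfsg.Agent.H865.EE.act w8 x) = cX tp8 t x ^ 2 := by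
  rw [AT_w8 hk ht.1 x, show 7 = 5 + 2 by norm_num, pow_add, cX_T5_pow hk ht, one_mul]

/-! ### Elements normalising the torus -/

include hk in
/-- an element of `GT k` normalising the torus represents an element of `CW` -/
theorem cw_of_rp {y : ↥(chevE8.group k)} (hy : y ∈ GT k) {w : W8} (h : Rp cs8 (nsysL tp8 cs8 hk 3) w y) : w ∈ CW := by
  have hy' : sg k y = y := hy
  have h2 : ∀ x, _root_.Cfsg.Agent.H865.EE.act w8 (_root_.Cfsg.Agent.H865.EE.act w x) = _root_.Cfsg.Agent.H865.EE.act w (_root_.Cfsg.Agent.H865.EE.act w8 x) := by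
    intro x
    refine cX_sep tp8 (k := k) invC_E8 one_ne_zero fun t ht => ?_
    -- `t = y s y⁻¹`
    obtain ⟨s, hs, hst⟩ : ∃ s ∈ TT chevE8 k, t = y * s * y⁻¹ := by
      refine ⟨y⁻¹ * t * y, ?_, by group⟩
      have h1 := rp_conj_TT hk h.inv ht
      rwa [inv_inv] at h1
    have hys : y * s * y⁻¹ ∈ TT chevE8 k := rp_conj_TT hk h hs
    apply frobenius_inj k 3
    show cX tp8 t (_root_.Cfsg.Agent.H865.EE.act w8 (_root_.Cfsg.Agent.H865.EE.act w x)) ^ 3 = cX tp8 t (_root_.Cfsg.Agent.H865.EE.act w (_root_.Cfsg.Agent.H865.EE.act w8 x)) ^ 3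
    rw [hst, ← cX_sg hk hys, cX_rp3 hk h hs, ← cX_sg hk hs, map_mul, map_mul, map_inv, hy']
    exact cX_rp3 hk h (sg_TT hk hs) x
  rw [CW, Subgroup.mem_centralizer_singleton_iff]
  exact act_ext fun x => by rw [act_mul, act_mul, h2]

/-- the family `f (vp a b)` -/
theorem fam_T5 {f : SL35 →* ↥(chevE8.group k)} (hT : ∀ s ∈ VP, f s ∈ T5 k) (p : A5) : f (vp p.1 p.2) ∈ T5 k :=
  hT _ ⟨_, _, rfl⟩

include hk in
/-- an element normalising `f VP` normalises the torus and represents an element of `CW` -/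
theorem exists_rp_of_norm {f : SL35 →* ↥(chevE8.group k)} (hT : ∀ s ∈ VP, f s ∈ T5 k) (hreg : Reg (f '' VP))
    {y : ↥(chevE8.group k)} (hy : y ∈ GT k) (h : ∀ s ∈ VP, ∃ s' ∈ VP, y⁻¹ * f s * y = f s') :
    ∃ w ∈ CW, Rp cs8 (nsysL tp8 cs8 hk 3) w y := by
  have h1 : ∀ p : A5, ∃ q : A5, y⁻¹ * f (vp p.1 p.2) * y = f (vp q.1 q.2) := by
    intro p
    obtain ⟨_, ⟨c, d, rfl⟩, e⟩ := h _ ⟨p.1, p.2, rfl⟩
    exact ⟨(c, d), e⟩
  choose g hg using h1
  obtain ⟨w, n, hn, -, hnc⟩ := exists_rp_conj hk (s := fun p => f (vp (g p).1 (g p).2)) (t := fun p : A5 => f (vp p.1 p.2))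
    (fun p => (fam_T5 hT _).1.1) (fun p => (fam_T5 hT _).1.1) (c := y) (fun p => by rw [← hg]; group)
  have e := hnc fun a ha => by
    obtain ⟨_, ⟨_, ⟨c, d, rfl⟩, rfl⟩, h⟩ := hreg a ha
    exact ⟨(c, d), h⟩
  subst e
  exact ⟨w, cw_of_rp hk hy hn, hn⟩

/-! ### `z0` -/

theorem z0_vp (p : A5) : z0 * vp p.1 p.2 = vp p.1 p.2 * vp p.1 p.2 * z0 := by
  obtain ⟨a, b⟩ := p
  apply Subtype.ext
  show (!![4, 0, 0; 0, 2, 0; 0, 0, 2] : Matrix (Fin 3) (Fin 3) (ZMod 5)) * !![1, a, b; 0, 1, 0; 0, 0, 1] =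
    !![1, a, b; 0, 1, 0; 0, 0, 1] * !![1, a, b; 0, 1, 0; 0, 0, 1] * !![4, 0, 0; 0, 2, 0; 0, 0, 2]
  have key : ∀ a : ZMod 5, 4 * a = (a + a) * 2 := by decide
  ext i j
  (revert i j; simp only [key, Cfsg.Agent.Lib.MatLit.r3] <;> and_intros)
  decide

theorem z0_inv_vp (a b : ZMod 5) : z0⁻¹ * vp a b * z0 = vp (a + a + a) (b + b + b) := by
  have e1 := z0_vp (a + a + a, b + b + b)
  have e3 : vp (a + a + a) (b + b + b) * vp (a + a + a) (b + b + b) = vp a b := by
    rw [vp_mul]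
    have key : ∀ a : ZMod 5, a + a + a + (a + a + a) = a := by decide
    rw [key, key]
  change z0 * vp (a + a + a) (b + b + b) = vp (a + a + a) (b + b + b) * vp (a + a + a) (b + b + b) * z0 at e1
  rw [e3] at e1
  rw [mul_assoc, ← e1]
  group

include hk in
/-- `f z0` represents `w8⁻¹` -/
theorem rp_z0_of
    (five_elt : ∀ {u : W8}, u ∈ CW → ∀ {n : ℕ}, u ^ 5 ^ n = 1 → u ^ 5 = 1)
    (fix_line : ∀ {u : W8}, u ∈ CW → u ^ 5 = 1 → u ≠ 1 → ∀ {φ ψ : Module.Dual (ZMod 5) (Fin 4 → ZMod 5)},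
      (∀ x, φ (_root_.Cfsg.Agent.H865.EE.PP (_root_.Cfsg.Agent.H865.EE.act u x)) = φ (_root_.Cfsg.Agent.H865.EE.PP x)) → (∀ x, ψ (_root_.Cfsg.Agent.H865.EE.PP (_root_.Cfsg.Agent.H865.EE.act u x)) = ψ (_root_.Cfsg.Agent.H865.EE.PP x)) → φ ≠ 0 → ∃ c : ZMod 5, ψ = c • φ)
    {ζ : k} (hζ : IsPrimitiveRoot ζ 5) {e : Module.Dual (ZMod 5) (Fin 4 → ZMod 5) → ↥(chevE8.group k)}
    (hrg : Set.range e = T5 k) (he : ∀ φ x, cX tp8 (e φ) x = ζ ^ (φ (_root_.Cfsg.Agent.H865.EE.PP x)).val)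
    {f : SL35 →* ↥(chevE8.group k)} (hf : Function.Injective f) (hr : ∀ x, f x ∈ GT k) (hT : ∀ s ∈ VP, f s ∈ T5 k)
    (hreg : Reg (f '' VP)) : Rp cs8 (nsysL tp8 cs8 hk 3) w8⁻¹ (f z0) := by
  obtain ⟨S, hS⟩ : ∃ S : A5 → ↥(chevE8.group k), ∀ p, S p = f (vp p.1 p.2) := ⟨_, fun _ => rfl⟩
  have hS5 : ∀ p, S p ∈ T5 k := fun p => by rw [hS]; exact fam_T5 hT p
  have hST : ∀ p, S p ∈ TT chevE8 k := fun p => (hS5 p).1.1
  have hSm : ∀ p q, S (p + q) = S p * S q := fun p q => by rw [hS, hS, hS, vp_add, map_mul]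
  have hSi : Function.Injective S := fun p q hpq => by
    rw [hS, hS] at hpq
    have h0 := hf hpq
    have h1 := congrArg (fun g : SL35 => g.1 0 1) h0
    have h2 := congrArg (fun g : SL35 => g.1 0 2) h0
    exact Prod.ext h1 h2
  have hSreg : ∀ a, Rt a → ∃ p, cX tp8 (S p) a ≠ 1 := fun a ha => by
    obtain ⟨_, ⟨_, ⟨c, d, rfl⟩, rfl⟩, h⟩ := hreg a ha
    exact ⟨(c, d), by rw [hS]; exact h⟩
  -- `f z0` represents `ω ∈ CW`
  have hnorm : ∀ s ∈ VP, ∃ s' ∈ VP, (f z0)⁻¹ * f s * f z0 = f s' := by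
    rintro _ ⟨a, b, rfl⟩
    exact ⟨_, ⟨_, _, rfl⟩, by rw [← z0_inv_vp, map_mul, map_mul, map_inv]⟩
  obtain ⟨ω, hω, hrp⟩ := exists_rp_of_norm hk hT hreg (hr z0) hnorm
  have hcS : ∀ p, f z0 * S p * (f z0)⁻¹ = S p * S p := fun p => by
    have e := congrArg f (z0_vp p)
    rw [map_mul, map_mul, map_mul] at e
    rw [hS, e]
    group
  have hω3 : ∀ p x, cX tp8 (S p) (_root_.Cfsg.Agent.H865.EE.act ω x) = cX tp8 (S p) x ^ 3 := fun p x => by
    have h1 := cX_rp3 hk hrp (hST p) x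
    rw [hcS, cX_mul tp8 (hST p) (hST p), ← sq] at h1
    rw [← h1, ← pow_mul, show 2 * 3 = 5 + 1 by norm_num, pow_succ, cX_T5_pow hk (hS5 p), one_mul]
  have hone : w8 * ω = 1 := by
    refine eq_one_of_fixes five_elt fix_line hζ hrg he hS5 hSm hSi hSreg (w := w8 * ω) (mul_mem ?_ hω) fun p x => ?_
    · rw [CW, Subgroup.mem_centralizer_singleton_iff]
    · rw [act_mul, T5_w8 hk (hS5 p), hω3, ← pow_mul, show 3 * 2 = 5 + 1 by norm_num, pow_succ, cX_T5_pow hk (hS5 p),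
        one_mul]
  rw [← eq_inv_of_mul_eq_one_right hone]
  exact hrp

include hk in
theorem z0_AT_of
    (five_elt : ∀ {u : W8}, u ∈ CW → ∀ {n : ℕ}, u ^ 5 ^ n = 1 → u ^ 5 = 1)
    (fix_line : ∀ {u : W8}, u ∈ CW → u ^ 5 = 1 → u ≠ 1 → ∀ {φ ψ : Module.Dual (ZMod 5) (Fin 4 → ZMod 5)},
      (∀ x, φ (_root_.Cfsg.Agent.H865.EE.PP (_root_.Cfsg.Agent.H865.EE.act u x)) = φ (_root_.Cfsg.Agent.H865.EE.PP x)) → (∀ x, ψ (_root_.Cfsg.Agent.H865.EE.PP (_root_.Cfsg.Agent.H865.EE.act u x)) = ψ (_root_.Cfsg.Agent.H865.EE.PP x)) → φ ≠ 0 → ∃ c : ZMod 5, ψ = c • φ)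
    {ζ : k} (hζ : IsPrimitiveRoot ζ 5) {e : Module.Dual (ZMod 5) (Fin 4 → ZMod 5) → ↥(chevE8.group k)}
    (hrg : Set.range e = T5 k) (he : ∀ φ x, cX tp8 (e φ) x = ζ ^ (φ (_root_.Cfsg.Agent.H865.EE.PP x)).val)
    {f : SL35 →* ↥(chevE8.group k)} (hf : Function.Injective f) (hr : ∀ x, f x ∈ GT k) (hT : ∀ s ∈ VP, f s ∈ T5 k)
    (hreg : Reg (f '' VP)) {t : ↥(chevE8.group k)} (ht : t ∈ AT k) : f z0 * t * (f z0)⁻¹ = t ^ 7 := by
  have hrp := rp_z0_of hk five_elt fix_line hζ hrg he hf hr hT hreg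
  refine cX_inj tp8 (rp_conj_TT hk hrp ht.1) (pow_mem ht.1 7) fun i => ?_
  have h1 := cX_rp3 hk hrp ht.1 (_root_.Cfsg.Agent.H865.EE.act w8 (sr i))
  rw [act_inv_act] at h1
  rw [h1, AT_w8 hk ht, cX_pow tp8 ht.1]

/-! ### The elements of order 2 -/

include hk in
theorem card_AT2_of (h1 : Nat.card ↥(AT k) = 10 ^ 4) (h2 : Nat.card ↥(T5 k) = 625) :
    Nat.card {t : ↥(chevE8.group k) // t ∈ AT k ∧ t ^ 2 = 1} = 16 := by
  have hcm : ∀ {a b : ↥(chevE8.group k)}, a ∈ AT k → b ∈ AT k → a * b = b * a := fun ha hb =>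
    TT_comm (K := k) tp8 _ ha.1 _ hb.1
  let e : ↥(AT k) ≃ {t : ↥(chevE8.group k) // t ∈ AT k ∧ t ^ 2 = 1} × ↥(T5 k) :=
    { toFun := fun t => (⟨t.1 ^ 5, pow_mem t.2 5, by rw [← pow_mul]; exact AT_pow hk t.2⟩,
        ⟨t.1 ^ 6, pow_mem t.2 6, by
          rw [← pow_mul, show 6 * 5 = 10 * 3 by norm_num, pow_mul, AT_pow hk t.2, one_pow]⟩)
      invFun := fun q => ⟨q.1.1 * q.2.1, mul_mem q.1.2.1 q.2.2.1⟩
      left_inv := fun t => by
        apply Subtype.ext
        show t.1 ^ 5 * t.1 ^ 6 = t.1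
        rw [← pow_add, show 5 + 6 = 10 + 1 by norm_num, pow_succ, AT_pow hk t.2, one_mul]
      right_inv := fun q => by
        obtain ⟨⟨a, ha, ha2⟩, ⟨b, hb⟩⟩ := q
        have hc : Commute a b := hcm ha hb.1
        have hb5 : b ^ 5 = 1 := hb.2
        apply Prod.ext
        · apply Subtype.ext
          show (a * b) ^ 5 = a
          rw [hc.mul_pow, hb5, mul_one, show 5 = 2 * 2 + 1 by norm_num, pow_succ, pow_mul, ha2, one_pow, one_mul]
        · apply Subtype.ext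
          show (a * b) ^ 6 = b
          rw [hc.mul_pow, show 6 = 2 * 3 by norm_num, pow_mul, ha2, one_pow, one_mul, show 2 * 3 = 5 + 1 by norm_num,
            pow_succ, hb5, one_mul] }
  have h3 := Nat.card_congr e
  rw [Nat.card_prod, h1, h2] at h3
  omega

theorem uu_vp (a b : ZMod 5) : (us 0 0 1)⁻¹ * vp a b * us 0 0 1 = vp a (b + a) := by
  have h := vp_us a b 1
  rw [mul_assoc, h, mul_one]
  group

theorem uu_pow : (us 0 0 1) ^ 5 = 1 := by decide +kernel

theorem uu_ne : us 0 0 1 * vp 1 0 ≠ vp 1 0 * us 0 0 1 := by decide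

include hk in
/-- **No fixed involution** -/
theorem uu_AT2 {f : SL35 →* ↥(chevE8.group k)} (hf : Function.Injective f) (hr : ∀ x, f x ∈ GT k)
    (hT : ∀ s ∈ VP, f s ∈ T5 k) (hreg : Reg (f '' VP)) {t : ↥(chevE8.group k)} (ht : t ∈ AT k) (h2 : t ^ 2 = 1)
    (h : t * f (us 0 0 1) = f (us 0 0 1) * t) : t = 1 := by
  obtain ⟨u, hu, hrp⟩ := exists_rp_of_norm hk hT hreg (hr (us 0 0 1)) (by
    rintro _ ⟨a, b, rfl⟩
    exact ⟨_, ⟨a, b + a, rfl⟩, by rw [← map_inv, ← map_mul, ← map_mul, uu_vp]⟩)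
  have h1 : u ≠ 1 := by
    rintro rfl
    have h3 : f (us 0 0 1) ∈ TT chevE8 k := hrp.mem_of_one
    have h4 := TT_comm (K := k) tp8 _ h3 _ (hT (vp 1 0) ⟨1, 0, rfl⟩).1.1
    exact uu_ne (hf (by rw [map_mul, map_mul]; exact h4))
  have h5 : u ^ 5 = 1 := by
    have h3 : ∀ n : ℕ, Rp cs8 (nsysL tp8 cs8 hk 3) (u ^ n) (f (us 0 0 1) ^ n) := by
      intro n
      induction n with
      | zero => rw [pow_zero, pow_zero]; exact rp_one
      | succ n ih => rw [pow_succ, pow_succ]; exact ih.mul hrp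
    have h4 := h3 5
    rw [← map_pow, uu_pow, map_one] at h4
    exact rp_inj hk h4 rp_one
  have hfix : ∀ x, cX tp8 t (_root_.Cfsg.Agent.H865.EE.act u x) = cX tp8 t x := fun x => by
    have h3 := cX_rp3 hk hrp ht.1 x
    rwa [← h, mul_inv_cancel_right] at h3
  have hmc := isMC_cX tp8 ht.1
  have h6 : ∀ x, cX tp8 t x ^ 5 = 1 := fun x => by
    have h3 := congrArg (cX tp8 t) (Cfsg.Agent.H343.L5.sum_zero' hu h5 h1 x)
    rw [hmc.add, hmc.add, hmc.add, hmc.add, hfix, hfix, hfix, hfix, hfix, hfix, hfix, hfix, hfix, hfix, hmc.zero] at h3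
    rw [← h3]
    ring
  have h7 : t ^ 5 = 1 := by
    refine cX_inj tp8 (pow_mem ht.1 5) (one_mem _) fun i => ?_
    rw [cX_pow tp8 ht.1, h6, cX_one]
  calc t = t ^ 5 * ((t ^ 2) ^ 2)⁻¹ := by group
    _ = 1 := by rw [h7, h2]; group

end Cfsg.Agent.H602.L5
end

private theorem dce_692e9be513c1 : _root_.True := by
  try have : _root_.True := by simp only [_root_.Cfsg.Agent.H241.L5.chr.congr_simp]
  try have : _root_.True := by simp only [_root_.Cfsg.Agent.H129.TorusChar.cX.congr_simp]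
  try have : _root_.True := by simp only [_root_.Cfsg.Agent.H241.L5.KS.eq_1]
  try have : _root_.True := by simp only [_root_.Cfsg.Agent.H865.L5.sg.congr_simp]
  try have : _root_.True := by simp only [_root_.Cfsg.Agent.H343.L5.Ab.congr_simp]
  exact _root_.True.intro
end

-- part: H858/L5/SlB
section
prune_inst 0xe5006044104000000000001010202040440005b200400800d08008400046bc0249c00001f4b03806028e2001480900000000007000000000000004000001000008801006a0480000000096000080000000000000000000000000000000041004000000000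
set_option linter.all false
open scoped Cfsg.Agent.FastGrp

-- part: H858/L5/SlA
section
/-!
# S5923 / S5924, section S (first part): facts on `SL₃(5)` (S2, S3, S4, S5, S7)
-/

set_option autoImplicit false
set_option linter.unusedSectionVars false

namespace Cfsg.Agent.H858.L5

open Subgroup Cfsg.Agent.H865.L5

/-- entries -/
theorem ext3 {g h : SL35} (e : ∀ i j, g.1 i j = h.1 i j) : g = h := Subtype.ext (Matrix.ext e)

theorem mul_apply3 (g h : SL35) (i j : Fin 3) :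
    (g * h).1 i j = g.1 i 0 * h.1 0 j + g.1 i 1 * h.1 1 j + g.1 i 2 * h.1 2 j := by
  show (g.1 * h.1) i j = _
  rw [Matrix.mul_apply, Fin.sum_univ_three]

theorem det3 (g : SL35) : g.1 0 0 * g.1 1 1 * g.1 2 2 - g.1 0 0 * g.1 1 2 * g.1 2 1 - g.1 0 1 * g.1 1 0 * g.1 2 2 +
    g.1 0 1 * g.1 1 2 * g.1 2 0 + g.1 0 2 * g.1 1 0 * g.1 2 1 - g.1 0 2 * g.1 1 1 * g.1 2 0 = 1 := by
  rw [← Matrix.det_fin_three]
  exact g.2

theorem us_mul (a b c a' b' c' : ZMod 5) : us a b c * us a' b' c' = us (a + a') (b + b' + a * c') (c + c') := by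
  refine ext3 fun i j => ?_
  rw [mul_apply3]
  (revert i j; simp only [us, _root_.Fin.forall_fin_succ, Fin.isValue, _root_.Matrix.of_apply, _root_.Matrix.cons_val', _root_.Matrix.cons_val_zero, _root_.Matrix.cons_val_fin_one, _root_.Matrix.cons_val_one, _root_.Matrix.cons_val, _root_.mul_one, _root_.MulZeroClass.mul_zero, _root_.add_zero, _root_.Matrix.cons_val_succ, _root_.forall_const, _root_.true_and, _root_.one_mul, _root_.add_eq_right, _root_.mul_eq_zero, _root_.true_or, _root_.MulZeroClass.zero_mul, _root_.zero_add, _root_.and_self, _root_.implies_true, _root_.and_true]) <;> (repeat' with_reducible apply And.intro) <;> ring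

theorem us_zero : us 0 0 0 = 1 := by
  refine ext3 fun i j => ?_
  fin_cases i <;> fin_cases j <;> rfl

theorem us_inv (a b c : ZMod 5) : (us a b c)⁻¹ = us (-a) (a * c - b) (-c) := by
  rw [inv_eq_iff_mul_eq_one, us_mul, ← us_zero]
  congr 1 <;> ring

theorem us_inj {a b c a' b' c' : ZMod 5} : us a b c = us a' b' c' ↔ a = a' ∧ b = b' ∧ c = c' := by
  constructor
  · intro h
    have h1 : (us a b c).1 = (us a' b' c').1 := congrArg Subtype.val h
    exact ⟨congrFun (congrFun h1 0) 1, congrFun (congrFun h1 0) 2, congrFun (congrFun h1 1) 2⟩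
  · rintro ⟨rfl, rfl, rfl⟩
    rfl

theorem vp_eq (a b : ZMod 5) : vp a b = us a b 0 := rfl
theorem vl_eq (a b : ZMod 5) : vl a b = us 0 a b := rfl

/-! ### S2 -/

/-- `US` as a subgroup -/
def uS : Subgroup SL35 where
  carrier := US
  one_mem' := ⟨0, 0, 0, us_zero.symm⟩
  mul_mem' := by
    rintro _ _ ⟨a, b, c, rfl⟩ ⟨a', b', c', rfl⟩
    exact ⟨_, _, _, us_mul _ _ _ _ _ _⟩
  inv_mem' := by
    rintro _ ⟨a, b, c, rfl⟩
    exact ⟨_, _, _, us_inv _ _ _⟩

/-- `VP` as a subgroup -/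
def vP : Subgroup SL35 where
  carrier := VP
  one_mem' := ⟨0, 0, us_zero.symm⟩
  mul_mem' := by
    rintro _ _ ⟨a, b, rfl⟩ ⟨a', b', rfl⟩
    refine ⟨a + a', b + b', ?_⟩
    rw [vp_eq, vp_eq, vp_eq, us_mul, us_inj]
    exact ⟨rfl, by ring, by ring⟩
  inv_mem' := by
    rintro _ ⟨a, b, rfl⟩
    refine ⟨-a, -b, ?_⟩
    rw [vp_eq, vp_eq, us_inv, us_inj]
    exact ⟨rfl, by ring, by ring⟩

/-- `VL` as a subgroup -/
def vL : Subgroup SL35 where
  carrier := VL
  one_mem' := ⟨0, 0, us_zero.symm⟩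
  mul_mem' := by
    rintro _ _ ⟨a, b, rfl⟩ ⟨a', b', rfl⟩
    refine ⟨a + a', b + b', ?_⟩
    rw [vl_eq, vl_eq, vl_eq, us_mul, us_inj]
    exact ⟨by ring, by ring, rfl⟩
  inv_mem' := by
    rintro _ ⟨a, b, rfl⟩
    refine ⟨-a, -b, ?_⟩
    rw [vl_eq, vl_eq, us_inv, us_inj]
    exact ⟨by ring, by ring, rfl⟩

theorem card_uS : Nat.card uS = 125 := by
  let f : ZMod 5 × ZMod 5 × ZMod 5 → uS := fun p => ⟨us p.1 p.2.1 p.2.2, ⟨_, _, _, rfl⟩⟩
  have hf : Function.Bijective f := by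
    constructor
    · rintro ⟨a, b, c⟩ ⟨a', b', c'⟩ h
      have h1 := us_inj.1 (congrArg Subtype.val h)
      exact Prod.ext h1.1 (Prod.ext h1.2.1 h1.2.2)
    · rintro ⟨_, a, b, c, rfl⟩
      exact ⟨(a, b, c), rfl⟩
  rw [← Nat.card_congr (Equiv.ofBijective f hf), Nat.card_prod, Nat.card_prod, Nat.card_zmod]

theorem card_vP : Nat.card vP = 25 := by
  let f : ZMod 5 × ZMod 5 → vP := fun p => ⟨vp p.1 p.2, ⟨_, _, rfl⟩⟩
  have hf : Function.Bijective f := by
    constructor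
    · rintro ⟨a, b⟩ ⟨a', b'⟩ h
      have h1 := us_inj.1 (congrArg Subtype.val h)
      exact Prod.ext h1.1 h1.2.1
    · rintro ⟨_, a, b, rfl⟩
      exact ⟨(a, b), rfl⟩
  rw [← Nat.card_congr (Equiv.ofBijective f hf), Nat.card_prod, Nat.card_zmod]

theorem card_vL : Nat.card vL = 25 := by
  let f : ZMod 5 × ZMod 5 → vL := fun p => ⟨vl p.1 p.2, ⟨_, _, rfl⟩⟩
  have hf : Function.Bijective f := by
    constructor
    · rintro ⟨a, b⟩ ⟨a', b'⟩ h
      have h1 := us_inj.1 (congrArg Subtype.val h)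
      exact Prod.ext h1.2.1 h1.2.2
    · rintro ⟨_, a, b, rfl⟩
      exact ⟨(a, b), rfl⟩
  rw [← Nat.card_congr (Equiv.ofBijective f hf), Nat.card_prod, Nat.card_zmod]

/-- S2 : `US`, `VP`, `VL` as subgroups -/
theorem exists_US : ∃ A : Subgroup SL35, (A : Set SL35) = US ∧ Nat.card A = 125 := ⟨uS, rfl, card_uS⟩
theorem exists_VL : ∃ A : Subgroup SL35, (A : Set SL35) = VL ∧ Nat.card A = 25 := ⟨vL, rfl, card_vL⟩

/-! ### S3 -/

theorem us_pow (a b c : ZMod 5) (n : ℕ) : ∃ b', us a b c ^ n = us (n * a) b' (n * c) := by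
  induction n with
  | zero =>
    refine ⟨0, ?_⟩
    rw [pow_zero, Nat.cast_zero, zero_mul, zero_mul, us_zero]
  | succ n ih =>
    obtain ⟨b', hb⟩ := ih
    refine ⟨b' + b + n * a * c, ?_⟩
    rw [pow_succ, hb, us_mul, us_inj]
    push_cast
    exact ⟨by ring, rfl, by ring⟩

theorem us_z_pow (b : ZMod 5) (n : ℕ) : us 0 b 0 ^ n = us 0 (n * b) 0 := by
  induction n with
  | zero => rw [pow_zero, Nat.cast_zero, zero_mul, us_zero]
  | succ n ih =>
    rw [pow_succ, ih, us_mul, us_inj]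
    push_cast
    exact ⟨by ring, by ring, by ring⟩

theorem exists_nat_mul {b : ZMod 5} (hb : b ≠ 0) (c : ZMod 5) : ∃ n : ℕ, (n : ZMod 5) * b = c := by
  refine ⟨(c * b⁻¹).val, ?_⟩
  rw [ZMod.natCast_zmod_val, mul_assoc, inv_mul_cancel₀ hb, mul_one]

/-- a subgroup of order 25 of `US` contains the center -/
theorem center_le (A : Subgroup SL35) (hA : (A : Set SL35) ⊆ US) (hc : Nat.card A = 25) (b : ZMod 5) :
    us 0 b 0 ∈ A := by
  by_cases h : ∃ b' : ZMod 5, b' ≠ 0 ∧ us 0 b' 0 ∈ A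
  · obtain ⟨b', hb', h⟩ := h
    obtain ⟨n, hn⟩ := exists_nat_mul hb' b
    rw [← hn, ← us_z_pow]
    exact pow_mem h n
  · exfalso
    push Not at h
    have hz : ∀ b', us 0 b' 0 ∈ A → b' = 0 := fun b' hb' => by
      by_contra h1
      exact h b' h1 hb'
    have hex : ∀ x : A, ∃ a b c, (x : SL35) = us a b c := fun x => hA x.2
    choose fa fb fc hf using hex
    let F : A → ZMod 5 × ZMod 5 := fun x => (fa x, fc x)
    have hinj : Function.Injective F := by
      intro x y hxy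
      have h1 : fa x = fa y := congrArg Prod.fst hxy
      have h2 : fc x = fc y := congrArg Prod.snd hxy
      have h3 : (x : SL35) * (y : SL35)⁻¹ ∈ A := mul_mem x.2 (inv_mem y.2)
      rw [hf x, hf y, us_inv, us_mul, h1, h2, add_neg_cancel, add_neg_cancel] at h3
      have h4 := hz _ h3
      apply Subtype.ext
      rw [hf x, hf y, us_inj]
      refine ⟨h1, ?_, h2⟩
      linear_combination h4
    have := Fintype.ofFinite A
    have hbij : Function.Bijective F := by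
      rw [Fintype.bijective_iff_injective_and_card]
      refine ⟨hinj, ?_⟩
      rw [← Nat.card_eq_fintype_card, hc]
      decide
    obtain ⟨x, hx⟩ := hbij.2 (1, 0)
    obtain ⟨y, hy⟩ := hbij.2 (0, 1)
    have h1 : fa x = 1 := congrArg Prod.fst hx
    have h2 : fc x = 0 := congrArg Prod.snd hx
    have h3 : fa y = 0 := congrArg Prod.fst hy
    have h4 : fc y = 1 := congrArg Prod.snd hy
    have h5 : (x : SL35) * y * (x : SL35)⁻¹ * (y : SL35)⁻¹ ∈ A :=
      mul_mem (mul_mem (mul_mem x.2 y.2) (inv_mem x.2)) (inv_mem y.2)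
    rw [hf x, hf y, h1, h2, h3, h4, us_inv, us_inv, us_mul, us_mul, us_mul] at h5
    have h6 : us (1 + 0 + -1 + -0) (fb x + fb y + 1 * 1 + (1 * 0 - fb x) + (1 + 0) * -0 + (0 * 1 - fb y) +
        (1 + 0 + -1) * -1) (0 + 1 + -0 + -1) = us 0 1 0 := by
      rw [us_inj]
      exact ⟨by ring, by ring, by ring⟩
    rw [h6] at h5
    exact absurd (hz _ h5) (by decide)

/-- the subgroup of order 25 through `us a _ c` -/
def ln (a c : ZMod 5) : Set SL35 := {g | ∃ k b, g = us (k * a) b (k * c)}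

theorem ncard_ln {a c : ZMod 5} (h : a ≠ 0 ∨ c ≠ 0) : (ln a c).ncard = 25 := by
  let f : ZMod 5 × ZMod 5 → SL35 := fun p => us (p.1 * a) p.2 (p.1 * c)
  have hf : Function.Injective f := by
    rintro ⟨k, b⟩ ⟨k', b'⟩ hh
    obtain ⟨h1, h2, h3⟩ := us_inj.1 hh
    refine Prod.ext ?_ h2
    rcases h with h | h
    · exact mul_right_cancel₀ h h1
    · exact mul_right_cancel₀ h h3
  have h1 : ln a c = Set.range f := by
    ext g
    constructor
    · rintro ⟨k, b, rfl⟩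
      exact ⟨(k, b), rfl⟩
    · rintro ⟨⟨k, b⟩, rfl⟩
      exact ⟨k, b, rfl⟩
  rw [h1, ← Nat.card_coe_set_eq, Nat.card_range_of_injective hf, Nat.card_prod, Nat.card_zmod]

theorem eq_ln (A : Subgroup SL35) (hA : (A : Set SL35) ⊆ US) (hc : Nat.card A = 25) :
    ∃ a c : ZMod 5, (a ≠ 0 ∨ c ≠ 0) ∧ (A : Set SL35) = ln a c := by
  have hz := center_le A hA hc
  have hex : ∃ a b c, (a ≠ 0 ∨ c ≠ 0) ∧ us a b c ∈ A := by
    by_contra h
    push Not at h
    have h1 : (A : Set SL35) ⊆ Set.range fun b : ZMod 5 => us 0 b 0 := by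
      intro g hg
      obtain ⟨a, b, c, rfl⟩ := hA hg
      by_cases h0 : a ≠ 0 ∨ c ≠ 0
      · exact absurd hg (h a b c h0)
      · push Not at h0
        obtain ⟨rfl, rfl⟩ := h0
        exact ⟨b, rfl⟩
    have h2 := Set.ncard_le_ncard h1 (Set.toFinite _)
    rw [← Nat.card_coe_set_eq, ← Nat.card_coe_set_eq] at h2
    have h3 : Nat.card (Set.range fun b : ZMod 5 => us 0 b 0) ≤ Nat.card (ZMod 5) :=
      Nat.card_le_card_of_surjective _ Set.rangeFactorization_surjective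
    rw [Nat.card_zmod] at h3
    have h4 : Nat.card ((A : Set SL35) : Type _) = 25 := hc
    omega
  obtain ⟨a, b, c, h0, hm⟩ := hex
  refine ⟨a, c, h0, ?_⟩
  symm
  refine Set.eq_of_subset_of_ncard_le ?_ ?_ (Set.toFinite _)
  · rintro g ⟨k, b', rfl⟩
    obtain ⟨b'', hb''⟩ := us_pow a b c k.val
    rw [ZMod.natCast_zmod_val] at hb''
    have h1 : us (k * a) b'' (k * c) ∈ A := by
      rw [← hb'']
      exact pow_mem hm _
    have h2 : us (k * a) b' (k * c) = us (k * a) b'' (k * c) * us 0 (b' - b'') 0 := by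
      rw [us_mul, us_inj]
      exact ⟨by ring, by ring, by ring⟩
    rw [h2]
    exact mul_mem h1 (hz _)
  · rw [ncard_ln h0, ← Nat.card_coe_set_eq]
    exact hc.le

/-- S3 : the subgroups of order 25 of `US` -/
theorem six (A : Subgroup SL35) (hA : (A : Set SL35) ⊆ US) (hc : Nat.card A = 25) :
    (A : Set SL35) = VP ∨ (A : Set SL35) = VL ∨ ∃ c : ZMod 5, c ≠ 0 ∧ (A : Set SL35) = {g | ∃ a b, g = us a b (c * a)} := by
  obtain ⟨a, c, h0, hA'⟩ := eq_ln A hA hc
  rw [hA']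
  by_cases hc0 : c = 0
  · left
    have ha : a ≠ 0 := h0.resolve_right fun h => h hc0
    subst hc0
    ext g
    constructor
    · rintro ⟨k, b, rfl⟩
      exact ⟨k * a, b, by rw [mul_zero]; rfl⟩
    · rintro ⟨x, y, rfl⟩
      refine ⟨x * a⁻¹, y, ?_⟩
      rw [vp_eq, mul_zero, mul_assoc, inv_mul_cancel₀ ha, mul_one]
  · right
    by_cases ha0 : a = 0
    · left
      subst ha0
      ext g
      constructor
      · rintro ⟨k, b, rfl⟩
        exact ⟨b, k * c, by rw [mul_zero]; rfl⟩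
      · rintro ⟨x, y, rfl⟩
        refine ⟨y * c⁻¹, x, ?_⟩
        rw [vl_eq, mul_zero, mul_assoc, inv_mul_cancel₀ hc0, mul_one]
    · right
      refine ⟨c * a⁻¹, mul_ne_zero hc0 (inv_ne_zero ha0), ?_⟩
      ext g
      constructor
      · rintro ⟨k, b, rfl⟩
        refine ⟨k * a, b, ?_⟩
        rw [us_inj]
        refine ⟨rfl, rfl, ?_⟩
        field_simp
      · rintro ⟨x, y, rfl⟩
        refine ⟨x * a⁻¹, y, ?_⟩
        rw [us_inj]
        refine ⟨?_, rfl, ?_⟩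
        · field_simp
        · field_simp

/-! ### S4 -/

theorem exists_st : ∀ c d : ZMod 5, c ≠ 0 → d ≠ 0 → ∃ s t : ZMod 5, t * s = 1 ∧ d = t ^ 3 * c := by decide +kernel

/-- `diag(1, t, s)` -/
def tst (s t : ZMod 5) (hst : t * s = 1) : SL35 := ⟨!![1, 0, 0; 0, t, 0; 0, 0, s], by
  rw [Matrix.det_fin_three]
  simp [hst]⟩

/-- S4 : the torus is transitive on the four others -/
theorem six_conj {c d : ZMod 5} (hc : c ≠ 0) (hd : d ≠ 0) : ∃ h : SL35, ∀ a b, ∃ a' b',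
    h * us a b (c * a) * h⁻¹ = us a' b' (d * a') := by
  obtain ⟨s, t, hst, rfl⟩ := exists_st c d hc hd
  refine ⟨tst s t hst, fun a b => ⟨s * a, t * b, ?_⟩⟩
  rw [mul_inv_eq_iff_eq_mul]
  refine ext3 fun i j => ?_
  rw [mul_apply3, mul_apply3]
  have h1 : a = s * a * t := by linear_combination (-a) * hst
  have h2 : b = t * b * s := by linear_combination (-b) * hst
  have h3 : t * (c * a) = t ^ 3 * c * (s * a) * s := by
    linear_combination (-(t * c * a) * (t * s + 1)) * hst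
  (revert i j; simp only [us, tst, _root_.Fin.forall_fin_succ, Fin.isValue, _root_.Matrix.of_apply, _root_.Matrix.cons_val', _root_.Matrix.cons_val_zero, _root_.Matrix.cons_val_fin_one, _root_.Matrix.cons_val_one, _root_.Matrix.cons_val, _root_.mul_one, _root_.MulZeroClass.mul_zero, _root_.add_zero, _root_.Matrix.cons_val_succ, _root_.zero_add, _root_.forall_const, _root_.true_and, _root_.one_mul, _root_.MulZeroClass.zero_mul, _root_.and_self, _root_.implies_true, _root_.and_true]) <;> (repeat' with_reducible apply And.intro) <;> assumption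

/-! ### S5 -/

theorem cube_one : ∀ x : ZMod 5, x * x * x = 1 → x = 1 := by decide

/-- S5 : centralizers in `SL₃(5)` -/
theorem cent_VP {g : SL35} (h : ∀ s ∈ VP, g * s = s * g) : g ∈ VP := by
  have h1 := h (vp 1 0) ⟨1, 0, rfl⟩
  have h2 := h (vp 0 1) ⟨0, 1, rfl⟩
  have e1 : ∀ i j, (g * vp 1 0).1 i j = (vp 1 0 * g).1 i j := fun i j => by rw [h1]
  have e2 : ∀ i j, (g * vp 0 1).1 i j = (vp 0 1 * g).1 i j := fun i j => by rw [h2]
  simp only [mul_apply3] at e1 e2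
  have a00 := e1 0 0
  have a01 := e1 0 1
  have a02 := e1 0 2
  have a11 := e1 1 1
  have a21 := e1 2 1
  have b00 := e2 0 0
  have b01 := e2 0 1
  have b02 := e2 0 2
  simp only [vp, _root_.Fin.isValue, _root_.Matrix.of_apply, _root_.Matrix.cons_val', _root_.Matrix.cons_val_zero, _root_.Matrix.cons_val_fin_one, _root_.mul_one, _root_.Matrix.cons_val_one, _root_.MulZeroClass.mul_zero, _root_.add_zero, _root_.Matrix.cons_val, _root_.one_mul, _root_.MulZeroClass.zero_mul, _root_.left_eq_add, _root_.zero_add, _root_.add_eq_right] at a00 a01 a02 a11 a21 b00 b01 b02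
  have hd := det3 g
  have h00 : g.1 1 1 = g.1 0 0 := by linear_combination (-1 : ZMod 5) * a01
  have h22 : g.1 2 2 = g.1 0 0 := by linear_combination (-1 : ZMod 5) * b02
  rw [a11, a21, a02, b01, h00, h22] at hd
  have hx : g.1 0 0 = 1 := cube_one _ (by linear_combination hd)
  refine ⟨g.1 0 1, g.1 0 2, ext3 fun i j => ?_⟩
  (revert i j; simp only [vp, *, _root_.Fin.forall_fin_succ, Fin.isValue, _root_.Matrix.of_apply, _root_.Matrix.cons_val', _root_.Matrix.cons_val_fin_one, _root_.Matrix.cons_val_zero, _root_.Matrix.cons_val_succ, _root_.Fin.succ_zero_eq_one, _root_.Fin.succ_one_eq_two, _root_.IsEmpty.forall_iff, _root_.and_true, _root_.and_self])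

theorem cent_US {g : SL35} (h : ∀ s ∈ US, g * s = s * g) : ∃ b, g = us 0 b 0 := by
  obtain ⟨a, b, rfl⟩ := cent_VP (g := g) fun s hs => by
    obtain ⟨a, b, rfl⟩ := hs
    exact h _ ⟨a, b, 0, rfl⟩
  refine ⟨b, ?_⟩
  have h1 := h (us 0 0 1) ⟨0, 0, 1, rfl⟩
  rw [vp_eq, us_mul, us_mul, us_inj] at h1
  have h2 := h1.2.1
  have h3 : a = 0 := by linear_combination h2
  rw [vp_eq, h3]

/-! ### S7 -/

theorem io_vp (a b : ZMod 5) : io (vp a b) = vm (-a) (-b) := by
  rw [io_apply, vp_eq, us_inv]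
  refine ext3 fun i j => ?_
  change (us (-a) (a * 0 - b) (-0)).1 j i = (vm (-a) (-b)).1 i j
  (revert i j; simp only [us, vm, _root_.Fin.forall_fin_succ, _root_.MulZeroClass.mul_zero, _root_.zero_sub, _root_.neg_zero, _root_.Matrix.of_apply, _root_.Matrix.cons_val', _root_.Matrix.cons_val_fin_one, Fin.isValue, _root_.Matrix.cons_val_zero, _root_.Matrix.cons_val_succ, _root_.forall_const, _root_.and_self, _root_.implies_true])

theorem io_VP {g : SL35} : io g ∈ VM ↔ g ∈ VP := by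
  constructor
  · rintro ⟨a, b, h⟩
    refine ⟨-a, -b, ?_⟩
    apply io.injective
    rw [h, io_vp, neg_neg, neg_neg]
  · rintro ⟨a, b, rfl⟩
    exact ⟨-a, -b, io_vp a b⟩

/-- a permutation matrix -/
def cyc : SL35 := ⟨!![0, 1, 0; 0, 0, 1; 1, 0, 0], by
  rw [Matrix.det_fin_three]
  decide⟩

theorem cyc_vm (a b : ZMod 5) : cyc * vm a b * cyc⁻¹ = vl a b := by
  rw [mul_inv_eq_iff_eq_mul]
  refine ext3 fun i j => ?_
  rw [mul_apply3, mul_apply3]
  (revert i j; simp only [cyc, vm, vl, _root_.Fin.forall_fin_succ, Fin.isValue, _root_.Matrix.of_apply, _root_.Matrix.cons_val', _root_.Matrix.cons_val_zero, _root_.Matrix.cons_val_fin_one, _root_.Matrix.cons_val_one, _root_.Matrix.cons_val, _root_.mul_one, _root_.MulZeroClass.mul_zero, _root_.add_zero, _root_.zero_add, _root_.Matrix.cons_val_succ, _root_.implies_true, _root_.and_self, _root_.and_true, _root_.one_mul, _root_.MulZeroClass.zero_mul])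

theorem exists_VM_VL : ∃ x : SL35, ∀ g, g ∈ VM ↔ x * g * x⁻¹ ∈ VL := by
  refine ⟨cyc, fun g => ⟨?_, ?_⟩⟩
  · rintro ⟨a, b, rfl⟩
    exact ⟨a, b, cyc_vm a b⟩
  · rintro ⟨a, b, h⟩
    refine ⟨a, b, ?_⟩
    rw [← cyc_vm] at h
    exact mul_left_cancel (mul_right_cancel h)

end Cfsg.Agent.H858.L5
end

-- part: H858/L5/SlB
section
/-!
# S5923 / S5924, section S (second part): order, simplicity and automorphisms of `SL₃(5)` (S1, S6)
-/

set_option autoImplicit false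
set_option linter.unusedSectionVars false

namespace Cfsg.Agent.H858.L5

open Subgroup Cfsg.Agent.H865.L5
open Cfsg.Agent.ClassicalGeometry.AutPSL.Root Cfsg.Agent.ClassicalGeometry.AutPSL.Auto
  Cfsg.Agent.ClassicalGeometry.AutPSL.Main

/-- S1 -/
theorem card_SL : Nat.card SL35 = 372000 := by
  have h1 := Cfsg.Agent.S0242.result (F := ZMod 5) (ZMod.card 5) 3 (by norm_num)
  rw [Fin.prod_univ_three] at h1
  change 4 * Nat.card SL35 = 124 * 120 * 100 at h1
  omega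

theorem cube_one' : ∀ x : ZMod 5, x ^ 3 = 1 → x = 1 := by decide

theorem center_SL : Subgroup.center SL35 = ⊥ := by
  rw [eq_bot_iff]
  intro A hA
  rw [Matrix.SpecialLinearGroup.mem_center_iff] at hA
  obtain ⟨r, hr, hA⟩ := hA
  rw [Fintype.card_fin] at hr
  have h1 := cube_one' r hr
  rw [Subgroup.mem_bot]
  apply Subtype.ext
  rw [← hA, h1, map_one]
  rfl

theorem pr_injective : Function.Injective (pr : SL35 →* Matrix.ProjectiveSpecialLinearGroup (Fin 3) (ZMod 5)) := by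
  rw [injective_iff_map_eq_one]
  intro x hx
  have h1 := (pr_eq_one_iff x).1 hx
  rw [center_SL, Subgroup.mem_bot] at h1
  exact h1

/-- `SL₃(5) = PSL₃(5)` -/
noncomputable def slPsl : SL35 ≃* Matrix.ProjectiveSpecialLinearGroup (Fin 3) (ZMod 5) :=
  MulEquiv.ofBijective pr ⟨pr_injective, pr_surjective⟩

theorem simple_SL : IsSimpleGroup SL35 := by
  have := Cfsg.Agent.S0249.result (F := ZMod 5) 3 le_rfl
  exact slPsl.isSimpleGroup

theorem psl_equiv {F : Type*} [Field F] [Fintype F] (hF : Fintype.card F = 5) :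
    Nonempty (SL35 ≃* Matrix.ProjectiveSpecialLinearGroup (Fin 3) F) := by
  classical
  have e : ZMod 5 ≃+* F := ZMod.ringEquivOfPrime F (by norm_num) hF
  let m : SL35 →* Matrix.SpecialLinearGroup (Fin 3) F := Matrix.SpecialLinearGroup.map (e : ZMod 5 →+* F)
  let m' : Matrix.SpecialLinearGroup (Fin 3) F →* SL35 := Matrix.SpecialLinearGroup.map (e.symm : F →+* ZMod 5)
  have h1 : ∀ x, m' (m x) = x := fun x => by
    apply Subtype.ext
    ext i j
    change e.symm (e (x.1 i j)) = x.1 i j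
    exact e.symm_apply_apply _
  have h2 : ∀ x, m (m' x) = x := fun x => by
    apply Subtype.ext
    ext i j
    change e (e.symm (x.1 i j)) = x.1 i j
    exact e.apply_symm_apply _
  let E : SL35 ≃* Matrix.SpecialLinearGroup (Fin 3) F :=
    { toFun := m, invFun := m', left_inv := h1, right_inv := h2, map_mul' := map_mul m }
  have hc : Function.Injective (pr : Matrix.SpecialLinearGroup (Fin 3) F →* _) := by
    rw [injective_iff_map_eq_one]
    intro x hx
    have h3 := (pr_eq_one_iff x).1 hx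
    have h4 : E.symm x ∈ Subgroup.center SL35 := by
      rw [Subgroup.mem_center_iff] at h3 ⊢
      intro g
      have h5 := h3 (E g)
      apply E.injective
      rw [map_mul, map_mul, E.apply_symm_apply]
      exact h5
    rw [center_SL, Subgroup.mem_bot] at h4
    rw [← E.apply_symm_apply x, h4, map_one]
  exact ⟨E.trans (MulEquiv.ofBijective pr ⟨hc, pr_surjective⟩)⟩

/-! ### S6 -/

theorem fld_eq (σ : ZMod 5 ≃+* ZMod 5) (g : SL35) : fld σ g = g := by
  apply Subtype.ext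
  ext i j
  rw [coe_fld_apply]
  have h1 : σ = RingEquiv.refl _ := Subsingleton.elim _ _
  rw [h1]
  rfl

theorem scale : ∀ x : ZMod 5, x ≠ 0 → x ^ 3 * x = 1 := by decide

/-- conjugation by an element of `GL₃(5)` is inner -/
theorem cj_inner (A : GL (Fin 3) (ZMod 5)) : ∃ x : SL35, ∀ g, cj A g = x * g * x⁻¹ := by
  have hd : (A : Matrix (Fin 3) (Fin 3) (ZMod 5)).det ≠ 0 := by
    have := (Matrix.isUnit_iff_isUnit_det _).1 A.isUnit
    exact this.ne_zero
  set d := (A : Matrix (Fin 3) (Fin 3) (ZMod 5)).det with hdd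
  let x : SL35 := ⟨d • (A : Matrix (Fin 3) (Fin 3) (ZMod 5)), by
    rw [Matrix.det_smul, Fintype.card_fin, ← hdd]
    exact scale d hd⟩
  refine ⟨x, fun g => ?_⟩
  rw [eq_mul_inv_iff_mul_eq]
  apply Subtype.ext
  change (cj A g).1 * (d • (A : Matrix (Fin 3) (Fin 3) (ZMod 5))) = (d • (A : Matrix (Fin 3) (Fin 3) (ZMod 5))) * g.1
  rw [coe_cj, Matrix.mul_smul, Matrix.smul_mul, mul_assoc, ← Units.val_mul, inv_mul_cancel, Units.val_one, mul_one]

theorem aut_SL (α : SL35 ≃* SL35) : (∃ x, ∀ g, α g = x * g * x⁻¹) ∨ ∃ x, ∀ g, α g = x * io g * x⁻¹ := by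
  rcases surj_three 5 le_rfl (lift α) with ⟨A, σ, h⟩ | ⟨A, σ, h⟩
  · left
    obtain ⟨x, hx⟩ := cj_inner A
    refine ⟨x, fun g => ?_⟩
    have h1 : lift α (pr g) = lift (cj A * fld σ) (pr g) := by rw [h]
    rw [lift_pr, lift_pr] at h1
    have h2 := pr_injective h1
    rw [h2, MulAut.mul_apply, fld_eq, hx]
  · right
    obtain ⟨x, hx⟩ := cj_inner A
    refine ⟨x, fun g => ?_⟩
    have h1 : lift α (pr g) = lift (cj A * fld σ * itr) (pr g) := by rw [h]
    rw [lift_pr, lift_pr] at h1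
    have h2 := pr_injective h1
    rw [h2, MulAut.mul_apply, MulAut.mul_apply, fld_eq, hx]
    rfl

theorem trace_conj (x g : SL35) : Matrix.trace (x * g * x⁻¹).1 = Matrix.trace g.1 := by
  change Matrix.trace (x.1 * g.1 * (x⁻¹).1) = _
  rw [Matrix.trace_mul_comm, ← mul_assoc]
  change Matrix.trace ((x⁻¹ * x).1 * g.1) = _
  rw [inv_mul_cancel]
  change Matrix.trace (1 * g.1) = _
  rw [one_mul]

theorem io_not_inner : ¬ ∃ x : SL35, ∀ g, io g = x * g * x⁻¹ := by
  rintro ⟨x, hx⟩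
  have h1 := trace_conj x z0
  rw [← hx z0] at h1
  have h2 : Matrix.trace (io z0).1 = 0 := by
    rw [io_apply]
    decide +kernel
  have h3 : Matrix.trace z0.1 = 3 := by decide +kernel
  rw [h2, h3] at h1
  exact absurd h1 (by decide)

end Cfsg.Agent.H858.L5
end

private theorem dce_56e9b09e51ef : _root_.True := by
  try have : _root_.True := by simp only [_root_.Cfsg.Agent.H865.L5.z0.eq_1]
  try have : _root_.True := by simp only [_root_.Cfsg.Agent.H865.L5.vp.eq_1]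
  try have : _root_.True := by simp only [_root_.Cfsg.Agent.H858.L5.cyc.eq_1]
  try have : _root_.True := by simp only [_root_.Cfsg.Agent.H865.L5.vm.eq_1]
  try have : _root_.True := by simp only [_root_.Cfsg.Agent.H865.L5.vl.eq_1]
  try have : _root_.True := by simp only [_root_.Cfsg.Agent.H865.L5.us.eq_1]
  try have : _root_.True := by simp only [_root_.Cfsg.Agent.H858.L5.tst.eq_1]
  exact _root_.True.intro
end

-- part: H513/L5/ThB
section
prune_inst 0xf5106144544002000818001212202064640005b200604800f8e00d42004eff22e9c52101fcb03c068a8eae5168090000001001700020000000000c000005002088884206b348a10424009f800084000000000000000000000000000000041004000000000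
set_option linter.all false
open scoped Cfsg.Agent.FastGrp

/-!
# S5923 (M7): computations in `SL₃(5)` (helper513)
-/

set_option autoImplicit false
set_option linter.unusedSectionVars false
set_option linter.unusedSimpArgs false
set_option linter.unnecessarySeqFocus false

namespace Cfsg.Agent.H513.L5.ThB

open Cfsg.Agent.H865.L5

theorem ext3 {g h : SL35} (e : ∀ i j, g.1 i j = h.1 i j) : g = h := Subtype.ext (Matrix.ext e)

theorem us_mul (a b c a' b' c' : ZMod 5) : us a b c * us a' b' c' = us (a + a') (b' + a * c' + b) (c' + c) := by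
  apply ext3
  intro i j
  show (!![1, a, b; 0, 1, c; 0, 0, 1] * !![1, a', b'; 0, 1, c'; 0, 0, 1] : Matrix (Fin 3) (Fin 3) (ZMod 5)) i j = _
  (revert i j; simp only [us, Matrix.mul_apply, Fin.sum_univ_three, _root_.Fin.forall_fin_succ, _root_.Matrix.of_apply, _root_.Matrix.cons_val', _root_.Matrix.cons_val_fin_one, Fin.isValue, _root_.Matrix.cons_val_zero, _root_.Matrix.cons_val_one, _root_.Matrix.cons_val, _root_.mul_one, _root_.MulZeroClass.mul_zero, _root_.add_zero, _root_.Matrix.cons_val_succ, _root_.forall_const, _root_.true_and, _root_.one_mul, _root_.and_true, _root_.add_eq_right, _root_.mul_eq_zero, _root_.true_or, _root_.MulZeroClass.zero_mul, _root_.zero_add, _root_.and_self, _root_.implies_true]) <;> (repeat' with_reducible apply And.intro) <;> ring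

theorem us_one : us 0 0 0 = 1 := by
  apply ext3
  intro i j
  fin_cases i <;> fin_cases j <;> rfl

theorem us_inj {a b c a' b' c' : ZMod 5} (h : us a b c = us a' b' c') : a = a' ∧ b = b' ∧ c = c' := by
  have h1 := congrArg (fun g : SL35 => g.1 0 1) h
  have h2 := congrArg (fun g : SL35 => g.1 0 2) h
  have h3 := congrArg (fun g : SL35 => g.1 1 2) h
  exact ⟨h1, h2, h3⟩

/-- upper triangular elements which centralize `us 0 1 0` -/
theorem cent_form {x : SL35} (h : x * us 0 1 0 = us 0 1 0 * x) :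
    x.1 1 0 = 0 ∧ x.1 2 0 = 0 ∧ x.1 2 1 = 0 ∧ x.1 2 2 = x.1 0 0 ∧ x.1 0 0 ≠ 0 ∧ x.1 1 1 = x.1 0 0 * x.1 0 0 := by
  have h0 : ∀ i j, (x.1 * (!![1, 0, 1; 0, 1, 0; 0, 0, 1] : Matrix (Fin 3) (Fin 3) (ZMod 5))) i j =
      ((!![1, 0, 1; 0, 1, 0; 0, 0, 1] : Matrix (Fin 3) (Fin 3) (ZMod 5)) * x.1) i j :=
    fun i j => congrArg (fun g : SL35 => g.1 i j) h
  have e1 := h0 0 0
  have e2 := h0 0 1
  have e3 := h0 0 2
  have e4 := h0 1 2
  simp only [Matrix.mul_apply, Fin.sum_univ_three, _root_.Fin.isValue, _root_.Matrix.of_apply, _root_.Matrix.cons_val', _root_.Matrix.cons_val_zero, _root_.Matrix.cons_val_fin_one, _root_.mul_one, _root_.Matrix.cons_val_one, _root_.MulZeroClass.mul_zero, _root_.add_zero, _root_.Matrix.cons_val, _root_.one_mul, _root_.MulZeroClass.zero_mul, _root_.left_eq_add, _root_.zero_add, _root_.add_eq_right] at e1 e2 e3 e4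
  have h5 := x.2
  rw [Matrix.det_fin_three] at h5
  rw [e1, e2, e4] at h5
  have h6 : x.1 2 2 = x.1 0 0 := by linear_combination -e3
  rw [h6] at h5
  have h7 : x.1 0 0 ≠ 0 := by
    intro h
    rw [h] at h5
    simp only [_root_.Fin.isValue, _root_.MulZeroClass.zero_mul, _root_.MulZeroClass.mul_zero, _root_.sub_self, _root_.add_zero, _root_.zero_ne_one] at h5
  have h8 : (x.1 0 0) ^ 4 = 1 := ZMod.pow_card_sub_one_eq_one (p := 5) h7
  refine ⟨e4, e1, e2, h6, h7, ?_⟩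
  have h9 : x.1 0 0 * x.1 0 0 * (x.1 0 0 * x.1 0 0 * x.1 1 1) = x.1 0 0 * x.1 0 0 := by
    rw [show x.1 0 0 * x.1 0 0 * x.1 1 1 = 1 by linear_combination h5, mul_one]
  linear_combination h9 - x.1 1 1 * h8

theorem cent_us {x : SL35} (h : x * us 0 1 0 = us 0 1 0 * x) {a b c a' b' c' : ZMod 5}
    (h1 : x * us a b c = us a' b' c' * x) : x.1 0 0 * a = x.1 1 1 * a' ∧ x.1 1 1 * c = x.1 0 0 * c' := by
  obtain ⟨k1, k2, k3, k4, -, -⟩ := cent_form h
  have h0 : ∀ i j, (x.1 * !![1, a, b; 0, 1, c; 0, 0, 1]) i j = (!![1, a', b'; 0, 1, c'; 0, 0, 1] * x.1) i j :=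
    fun i j => congrArg (fun g : SL35 => g.1 i j) h1
  have e1 := h0 0 1
  have e2 := h0 1 2
  simp only [Matrix.mul_apply, Fin.sum_univ_three, k1, k2, k3, k4, _root_.Fin.isValue, _root_.Matrix.of_apply, _root_.Matrix.cons_val', _root_.Matrix.cons_val_one, _root_.Matrix.cons_val_zero, _root_.Matrix.cons_val_fin_one, _root_.mul_one, _root_.Matrix.cons_val, _root_.MulZeroClass.mul_zero, _root_.add_zero, _root_.one_mul, _root_.MulZeroClass.zero_mul, _root_.zero_add] at e1 e2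
  constructor
  · linear_combination e1
  · linear_combination e2

/-- the elements of the centralizer of `us 0 1 0` which fix `us 1 0 0` modulo the centre are in `US` -/
theorem mem_US {x : SL35} (h : x * us 0 1 0 = us 0 1 0 * x) {b : ZMod 5} (h1 : x * us 1 0 0 = us 1 b 0 * x) :
    ∃ p q r, x = us p q r := by
  obtain ⟨k1, k2, k3, k4, k5, k6⟩ := cent_form h
  obtain ⟨e1, -⟩ := cent_us h h1
  rw [k6, mul_one, mul_one] at e1
  have h2 : x.1 0 0 = 1 := by
    have : x.1 0 0 * (x.1 0 0 - 1) = 0 := by linear_combination -e1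
    rcases mul_eq_zero.1 this with h | h
    · exact absurd h k5
    · exact sub_eq_zero.1 h
  have h3 : x.1 1 1 = 1 := by rw [k6, h2, one_mul]
  have h4 : x.1 2 2 = 1 := by rw [k4, h2]
  refine ⟨x.1 0 1, x.1 0 2, x.1 1 2, ext3 fun i j => ?_⟩
  fin_cases i <;> fin_cases j
  · exact h2
  · rfl
  · rfl
  · exact k1
  · exact h3
  · rfl
  · exact k2
  · exact k3
  · exact h4

/-- the element which induces a given automorphism of `VP` -/
def pm (a b c d : ZMod 5) (h : a * d - b * c ≠ 0) : SL35 :=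
  ⟨!![(a * d - b * c) ^ 3, 0, 0; 0, (a * d - b * c) ^ 2 * d, - ((a * d - b * c) ^ 2 * b);
     0, - ((a * d - b * c) ^ 2 * c), (a * d - b * c) ^ 2 * a], by
    rw [Matrix.det_fin_three]
    have h8 : (a * d - b * c) ^ 4 = 1 := ZMod.pow_card_sub_one_eq_one (p := 5) h
    simp
    linear_combination ((a * d - b * c) ^ 4 + 1) * h8⟩

theorem pm_mul (a b c d : ZMod 5) (h : a * d - b * c ≠ 0) (s t : ZMod 5) :
    pm a b c d h * us s t 0 = us (s * a + t * c) (s * b + t * d) 0 * pm a b c d h := by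
  apply ext3
  intro i j
  show (!![(a * d - b * c) ^ 3, 0, 0; 0, (a * d - b * c) ^ 2 * d, - ((a * d - b * c) ^ 2 * b);
     0, - ((a * d - b * c) ^ 2 * c), (a * d - b * c) ^ 2 * a] * !![1, s, t; 0, 1, 0; 0, 0, 1] : Matrix _ _ (ZMod 5)) i j =
     (!![1, s * a + t * c, s * b + t * d; 0, 1, 0; 0, 0, 1] * !![(a * d - b * c) ^ 3, 0, 0; 0, (a * d - b * c) ^ 2 * d, - ((a * d - b * c) ^ 2 * b);
     0, - ((a * d - b * c) ^ 2 * c), (a * d - b * c) ^ 2 * a] : Matrix _ _ (ZMod 5)) i j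
  (revert i j; simp only [Matrix.mul_apply, Fin.sum_univ_three, _root_.Fin.forall_fin_succ, _root_.Matrix.of_apply, _root_.Matrix.cons_val', _root_.Matrix.cons_val_fin_one, Fin.isValue, _root_.Matrix.cons_val_zero, _root_.Matrix.cons_val_one, _root_.Matrix.cons_val, _root_.mul_one, _root_.MulZeroClass.mul_zero, _root_.add_zero, _root_.Matrix.cons_val_succ, _root_.zero_add, _root_.mul_neg, _root_.forall_const, _root_.one_mul, _root_.true_and, _root_.MulZeroClass.zero_mul, _root_.neg_zero, _root_.and_self, _root_.implies_true, _root_.and_true]) <;> (repeat' with_reducible apply And.intro) <;> ring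

/-- the reflection -/
def wm : SL35 := ⟨!![0, 0, 1; 0, -1, 0; 1, 0, 0], by rw [Matrix.det_fin_three]; decide⟩

/-- the duality which maps `VP` to `VL` -/
def io' : SL35 ≃* SL35 := io.trans (MulAut.conj wm)

theorem io'_us (s t : ZMod 5) : io' (us s t 0) = us 0 (-t) s := by
  show wm * io (us s t 0) * wm⁻¹ = _
  rw [mul_inv_eq_iff_eq_mul, io_apply]
  have h1 : (us s t 0)⁻¹ = us (-s) (-t) 0 := by
    rw [inv_eq_iff_mul_eq_one, us_mul]
    simp [us_one]
  rw [h1]
  apply ext3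
  intro i j
  show (!![0, 0, 1; 0, -1, 0; 1, 0, 0] * (!![1, -s, -t; 0, 1, 0; 0, 0, 1] : Matrix _ _ (ZMod 5)).transpose : Matrix _ _ (ZMod 5)) i j =
     (!![1, 0, -t; 0, 1, s; 0, 0, 1] * !![0, 0, 1; 0, -1, 0; 1, 0, 0] : Matrix _ _ (ZMod 5)) i j
  (revert i j; simp only [Matrix.mul_apply, Fin.sum_univ_three, _root_.Fin.forall_fin_succ, _root_.Matrix.of_apply, _root_.Matrix.cons_val', _root_.Matrix.cons_val_fin_one, _root_.Matrix.transpose_apply, Fin.isValue, _root_.Matrix.cons_val_zero, _root_.Matrix.cons_val_one, _root_.Matrix.cons_val, _root_.mul_one, _root_.mul_neg, _root_.MulZeroClass.mul_zero, _root_.add_zero, _root_.zero_add, _root_.Matrix.cons_val_succ, _root_.implies_true, _root_.and_true, _root_.MulZeroClass.zero_mul, _root_.neg_zero, _root_.one_mul, _root_.and_self, _root_.neg_mul, _root_.neg_neg])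

/-- the torus element `diag(2,4,2)` -/
def dm : SL35 := ⟨!![2, 0, 0; 0, 4, 0; 0, 0, 2], by rw [Matrix.det_fin_three]; decide⟩

theorem dm_mul (a b c : ZMod 5) : dm * us a b c = us (3 * a) b (2 * c) * dm := by
  apply ext3
  intro i j
  show (!![2, 0, 0; 0, 4, 0; 0, 0, 2] * !![1, a, b; 0, 1, c; 0, 0, 1] : Matrix _ _ (ZMod 5)) i j =
     (!![1, 3 * a, b; 0, 1, 2 * c; 0, 0, 1] * !![2, 0, 0; 0, 4, 0; 0, 0, 2] : Matrix _ _ (ZMod 5)) i j
  have e : (5 : ZMod 5) = 0 := by decide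
  (revert i j; simp only [Matrix.mul_apply, Fin.sum_univ_three, _root_.Fin.forall_fin_succ, _root_.Matrix.of_apply, _root_.Matrix.cons_val', _root_.Matrix.cons_val_fin_one, Fin.isValue, _root_.Matrix.cons_val_zero, _root_.Matrix.cons_val_one, _root_.Matrix.cons_val, _root_.mul_one, _root_.MulZeroClass.mul_zero, _root_.add_zero, _root_.Matrix.cons_val_succ, _root_.zero_add, _root_.forall_const, _root_.one_mul, _root_.MulZeroClass.zero_mul, _root_.implies_true, _root_.and_true, _root_.true_and]) <;> (repeat' with_reducible apply And.intro)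
  · linear_combination (-2 * a) * e
  · ring
  · ring

/-- elements which normalize `VP` or `VL` generate `SL₃(5)` -/
theorem gen {H : Subgroup SL35}
    (h1 : ∀ x : SL35, (∀ s t, ∃ s' t', x * us s t 0 = us s' t' 0 * x) → x ∈ H)
    (h2 : ∀ x : SL35, (∀ s t, ∃ s' t', x * us 0 s t = us 0 s' t' * x) → x ∈ H) (x : SL35) : x ∈ H := by
  have hus : ∀ a b c, us a b c ∈ H := by
    intro a b c
    apply h1
    intro s t
    refine ⟨s, t - s * c, ?_⟩
    rw [us_mul, us_mul]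
    congr 1 <;> ring
  -- lower elementary elements
  have h21 : ∀ c : ZMod 5, Matrix.SpecialLinearGroup.transvection (show (2 : Fin 3) ≠ 1 by decide) c ∈ H := by
    intro c
    apply h1
    intro s t
    refine ⟨s - t * c, t, ext3 fun i j => ?_⟩
    show ((1 + Matrix.single 2 1 c) * !![1, s, t; 0, 1, 0; 0, 0, 1] : Matrix _ _ (ZMod 5)) i j =
      (!![1, s - t * c, t; 0, 1, 0; 0, 0, 1] * (1 + Matrix.single 2 1 c) : Matrix _ _ (ZMod 5)) i j
    (revert i j; simp only [Matrix.mul_apply, Fin.sum_univ_three, Matrix.single_apply, Matrix.one_apply, _root_.Fin.forall_fin_succ, Fin.isValue, _root_.Matrix.add_apply, _root_.Matrix.of_apply, _root_.Matrix.cons_val', _root_.Matrix.cons_val_fin_one, _root_.one_ne_zero, _root_.and_false, ↓reduceIte, _root_.add_zero, _root_.Matrix.cons_val_zero, _root_.ite_mul, _root_.one_mul, _root_.MulZeroClass.zero_mul, _root_.and_true, _root_.Matrix.cons_val_one, Fin.reduceEq, _root_.Matrix.cons_val,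 _root_.false_and, _root_.mul_ite, _root_.mul_one, _root_.MulZeroClass.mul_zero, _root_.true_and, _root_.ite_self, _root_.Matrix.cons_val_succ, _root_.Fin.succ_zero_eq_one, _root_.zero_ne_one, _root_.zero_add, _root_.Fin.succ_one_eq_two, _root_.IsEmpty.forall_iff, _root_.sub_add_cancel, _root_.and_self, _root_.Fin.succ_ne_zero, _root_.ite_eq_left_iff, _root_.imp_false, _root_.Decidable.not_not])
  have h10 : ∀ c : ZMod 5, Matrix.SpecialLinearGroup.transvection (show (1 : Fin 3) ≠ 0 by decide) c ∈ H := by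
    intro c
    apply h2
    intro s t
    refine ⟨s, t + c * s, ext3 fun i j => ?_⟩
    show ((1 + Matrix.single 1 0 c) * !![1, 0, s; 0, 1, t; 0, 0, 1] : Matrix _ _ (ZMod 5)) i j =
      (!![1, 0, s; 0, 1, t + c * s; 0, 0, 1] * (1 + Matrix.single 1 0 c) : Matrix _ _ (ZMod 5)) i j
    (revert i j; simp only [Matrix.mul_apply, Fin.sum_univ_three, Matrix.single_apply, Matrix.one_apply, _root_.Fin.forall_fin_succ, Fin.isValue, _root_.Matrix.add_apply, _root_.Matrix.of_apply, _root_.Matrix.cons_val', _root_.Matrix.cons_val_fin_one, _root_.and_true, _root_.Matrix.cons_val_zero, _root_.zero_ne_one, _root_.and_false, ↓reduceIte, _root_.add_zero, _root_.Matrix.cons_val_one, _root_.ite_mul, _root_.one_mul, _root_.MulZeroClass.zero_mul, Fin.reduceEq, _root_.Matrix.cons_val, _root_.one_ne_zero, _root_.false_and, _root_.mul_ite, _root_.mul_one, _root_.MulZeroClass.mul_zero, _root_.true_and, _root_.ite_self, _root_.zero_add, _root_.Matrix.cons_val_succ,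 _root_.Fin.succ_zero_eq_one, _root_.Fin.succ_one_eq_two, _root_.IsEmpty.forall_iff, _root_.and_self, _root_.Fin.succ_ne_zero, _root_.ite_eq_right_iff, _root_.imp_false, _root_.not_false_eq_true]) <;> (repeat' with_reducible apply And.intro) <;> ring
  have h20 : ∀ c : ZMod 5, Matrix.SpecialLinearGroup.transvection (show (2 : Fin 3) ≠ 0 by decide) c ∈ H := by
    intro c
    have e : Matrix.SpecialLinearGroup.transvection (show (2 : Fin 3) ≠ 0 by decide) c =
        Matrix.SpecialLinearGroup.transvection (show (2 : Fin 3) ≠ 1 by decide) 1 *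
          Matrix.SpecialLinearGroup.transvection (show (1 : Fin 3) ≠ 0 by decide) c *
          Matrix.SpecialLinearGroup.transvection (show (2 : Fin 3) ≠ 1 by decide) (-1) *
          Matrix.SpecialLinearGroup.transvection (show (1 : Fin 3) ≠ 0 by decide) (-c) := by
      apply ext3
      intro i j
      show (1 + Matrix.single 2 0 c : Matrix _ _ (ZMod 5)) i j = ((1 + Matrix.single 2 1 1) * (1 + Matrix.single 1 0 c) *
        (1 + Matrix.single 2 1 (-1)) * (1 + Matrix.single 1 0 (-c)) : Matrix _ _ (ZMod 5)) i j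
      (revert i j; simp only [Matrix.mul_apply, Fin.sum_univ_three, Matrix.single_apply, Matrix.one_apply, _root_.Fin.forall_fin_succ, Fin.isValue, _root_.Matrix.add_apply, _root_.one_ne_zero, _root_.and_false, ↓reduceIte, _root_.add_zero, _root_.false_and, _root_.mul_ite, _root_.mul_one, _root_.MulZeroClass.mul_zero, _root_.and_true, _root_.true_and, Fin.reduceEq, _root_.zero_add, _root_.zero_ne_one, _root_.ite_mul, _root_.one_mul, _root_.MulZeroClass.zero_mul, _root_.ite_self, _root_.mul_neg, _root_.Fin.succ_zero_eq_one, _root_.Fin.succ_one_eq_two, _root_.IsEmpty.forall_iff, _root_.and_self, _root_.neg_zero, _root_.Fin.succ_ne_zero, _root_.add_neg_cancel])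
    rw [e]
    exact mul_mem (mul_mem (mul_mem (h21 1) (h10 c)) (h21 (-1))) (h10 (-c))
  induction x using Cfsg.Agent.LieClassical.SLGen.transvection_induction with
  | htransvec i j h c =>
    have hup : ∀ (a b d : ZMod 5), Matrix.SpecialLinearGroup.transvection h c = us a b d →
        Matrix.SpecialLinearGroup.transvection h c ∈ H := by
      intro a b d e
      rw [e]
      exact hus _ _ _
    fin_cases i <;> fin_cases j
    · exact absurd rfl h
    · refine hup c 0 0 (ext3 fun i j => ?_)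
      show (1 + Matrix.single 0 1 c : Matrix _ _ (ZMod 5)) i j = !![1, c, 0; 0, 1, 0; 0, 0, 1] i j
      (revert i j; simp only [Matrix.single_apply, Matrix.one_apply, _root_.Fin.forall_fin_succ, Fin.isValue, _root_.Matrix.add_apply, _root_.Matrix.of_apply, _root_.Matrix.cons_val', _root_.Matrix.cons_val_fin_one, _root_.one_ne_zero, _root_.and_false, ↓reduceIte, _root_.add_zero, _root_.Matrix.cons_val_zero, _root_.Matrix.cons_val_succ, _root_.Fin.succ_zero_eq_one, _root_.and_true, _root_.Fin.succ_one_eq_two, Fin.reduceEq, _root_.IsEmpty.forall_iff, _root_.zero_ne_one, _root_.zero_add, _root_.and_self, _root_.Fin.succ_ne_zero, _root_.ite_eq_left_iff, _root_.imp_false, _root_.Decidable.not_not, _root_.true_and])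
    · refine hup 0 c 0 (ext3 fun i j => ?_)
      show (1 + Matrix.single 0 2 c : Matrix _ _ (ZMod 5)) i j = !![1, 0, c; 0, 1, 0; 0, 0, 1] i j
      (revert i j; simp only [Matrix.single_apply, Matrix.one_apply, _root_.Fin.forall_fin_succ, Fin.isValue, _root_.Matrix.add_apply, _root_.Matrix.of_apply, _root_.Matrix.cons_val', _root_.Matrix.cons_val_fin_one, Fin.reduceEq, _root_.and_false, ↓reduceIte, _root_.add_zero, _root_.Matrix.cons_val_zero, _root_.Matrix.cons_val_succ, _root_.Fin.succ_zero_eq_one, _root_.Fin.succ_one_eq_two, _root_.and_true, _root_.IsEmpty.forall_iff, _root_.zero_ne_one, _root_.zero_add, _root_.and_self, _root_.Fin.succ_ne_zero, _root_.ite_eq_right_iff, _root_.one_ne_zero, _root_.imp_false, _root_.true_and, _root_.not_false_eq_true])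
    · exact h10 c
    · exact absurd rfl h
    · refine hup 0 0 c (ext3 fun i j => ?_)
      show (1 + Matrix.single 1 2 c : Matrix _ _ (ZMod 5)) i j = !![1, 0, 0; 0, 1, c; 0, 0, 1] i j
      (revert i j; simp only [Matrix.single_apply, Matrix.one_apply, _root_.Fin.forall_fin_succ, Fin.isValue, _root_.Matrix.add_apply, _root_.Matrix.of_apply, _root_.Matrix.cons_val', _root_.Matrix.cons_val_fin_one, Fin.reduceEq, _root_.and_false, ↓reduceIte, _root_.add_zero, _root_.Matrix.cons_val_zero, _root_.Matrix.cons_val_succ, _root_.Fin.succ_zero_eq_one, _root_.Fin.succ_one_eq_two, _root_.and_true, _root_.IsEmpty.forall_iff, _root_.zero_ne_one, _root_.one_ne_zero, _root_.and_self, _root_.Fin.succ_ne_zero, _root_.zero_add, _root_.ite_eq_right_iff, _root_.imp_false, _root_.true_and, _root_.not_false_eq_true])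
    · exact h20 c
    · exact h21 c
    · exact absurd rfl h
  | hmul A B hA hB => exact mul_mem hA hB

end Cfsg.Agent.H513.L5.ThB

private theorem dce_42a310b297ff : _root_.True := by
  try have : _root_.True := by simp only [_root_.Cfsg.Agent.H865.L5.us.eq_1]
  exact _root_.True.intro
end

-- part: H866/L5/X1
section
set_option linter.all false

/-!
# X1 of S5924 : the Steinberg presentation of `SL₃(5)` (helper866)
-/

set_option autoImplicit false

namespace Cfsg.Agent.H866.L5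

open Cfsg.Agent.H865.L5
open scoped commutatorElement

/-- X1 : the Steinberg presentation of `SL₃(5)` -/
theorem of_steinberg {G : Type*} [Group G] (x : Fin 3 → Fin 3 → G) (h1 : ∀ i j, i ≠ j → x i j ^ 5 = 1)
    (h2 : ∀ i j l, i ≠ j → j ≠ l → i ≠ l → ⁅x i j, x j l⁆ = x i l)
    (h3 : ∀ i j l m, i ≠ j → l ≠ m → j ≠ l → i ≠ m → ⁅x i j, x l m⁆ = 1) (h4 : x 0 1 ≠ 1) :
    ∃ f : SL35 →* G, Function.Injective f :=
  of_steinberg' x h1 h2 h3 h4

end Cfsg.Agent.H866.L5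
end
end
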